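import Cfsg.Agent.Lib.Solvable.CoprimeMulAction

/-!
A group `A` of order `q²` and exponent `q` acting by automorphisms with abelian fixed point
subgroups: basic facts, restriction and quotients.
-/

set_option autoImplicit false

namespace CfsgLib.RankTwoFpf

open Subgroup

variable {A G : Type*} [Group A] [Group G] [MulDistribMulAction A G]

variable (A) in
/-- Invariance under the acting group. -/
def Inv (K : Subgroup G) : Prop := ∀ a : A, ∀ x ∈ K, a • x ∈ K

variable (G) in
/-- The subgroup of elements fixed by `a`. -/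
def fx (a : A) : Subgroup G where
  carrier := {x | a • x = x}
  one_mem' := smul_one a
  mul_mem' {x y} hx hy := by
    show a • (x * y) = x * y
    rw [smul_mul', hx, hy]
  inv_mem' {x} hx := by
    show a • x⁻¹ = x⁻¹
    rw [smul_inv', hx]

theorem mem_fx {a : A} {x : G} : x ∈ fx G a ↔ a • x = x := Iff.rfl

/-- The standing hypothesis. -/
structure Hyp (A G : Type*) [Group A] [Group G] [MulDistribMulAction A G] (q : ℕ) : Prop where
  qp : q.Prime
  cardA : Nat.card A = q ^ 2
  comm : ∀ a b : A, a * b = b * a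
  pow : ∀ a : A, a ^ q = 1
  ncyc : ¬ IsCyclic A
  cop : ¬ q ∣ Nat.card G
  ab : ∀ a : A, a ≠ 1 → ∀ x y : G, a • x = x → a • y = y → x * y = y * x
  fixA : ∀ g : G, (∀ a : A, a • g = g) → g = 1

namespace Hyp

variable {q : ℕ} (h : Hyp A G q)
include h

theorem finA : Finite A :=
  Nat.finite_of_card_ne_zero (by rw [h.cardA]; exact pow_ne_zero 2 h.qp.ne_zero)

theorem isMulComm : IsMulCommutative A := ⟨⟨h.comm⟩⟩

theorem solvA : Group.IsSolvable A := Group.isSolvable_of_comm h.comm

theorem coprime : (Nat.card A).Coprime (Nat.card G) := by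
  rw [h.cardA]
  exact ((h.qp.coprime_iff_not_dvd).2 h.cop).pow_left 2

theorem orderOf_eq {a : A} (ha : a ≠ 1) : orderOf a = q :=
  orderOf_eq_prime_iff (hp := ⟨h.qp⟩) |>.2 ⟨h.pow a, ha⟩

theorem card_zpowers {a : A} (ha : a ≠ 1) : Nat.card (zpowers a) = q := by
  rw [Nat.card_zpowers, h.orderOf_eq ha]

theorem zpowers_eq {x m : A} (hx : x ≠ 1) (hm : x ∈ zpowers m) : zpowers x = zpowers m := by
  have := h.finA
  have hm1 : m ≠ 1 := by
    rintro rfl
    rw [zpowers_one_eq_bot, mem_bot] at hm
    exact hx hm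
  exact eq_of_le_of_card_ge (zpowers_le.2 hm) (by rw [h.card_zpowers hx, h.card_zpowers hm1])

theorem mem_zpowers_swap {x m : A} (hx : x ≠ 1) (hm : x ∈ zpowers m) : m ∈ zpowers x := by
  rw [h.zpowers_eq hx hm]
  exact mem_zpowers m

theorem eq_top {a b : A} (ha : a ≠ 1) (hb : b ∉ zpowers a) (H : Subgroup A) (haH : a ∈ H)
    (hbH : b ∈ H) : H = ⊤ := by
  have := h.finA
  refine eq_top_of_card_eq _ ?_
  have h1 : Nat.card H ∣ q ^ 2 := h.cardA ▸ H.card_subgroup_dvd_card
  obtain ⟨i, hi, hH⟩ := (Nat.dvd_prime_pow h.qp).1 h1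
  rw [h.cardA, hH]
  have hlt : q < Nat.card H := by
    have hle : zpowers a ≤ H := zpowers_le.2 haH
    rcases lt_or_eq_of_le (Nat.le_of_dvd Nat.card_pos (card_dvd_of_le hle)) with h2 | h2
    · rwa [h.card_zpowers ha] at h2
    · exact absurd ((eq_of_le_of_card_ge hle h2.ge).symm ▸ hbH : b ∈ zpowers a) hb
  have : i = 2 := by
    rw [hH] at hlt
    have := h.qp.two_le
    interval_cases i <;> simp at hlt ⊢
    omega
  rw [this]

theorem exists_not_mem (a : A) : ∃ b : A, b ∉ zpowers a := by
  by_contra hno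
  push Not at hno
  exact h.ncyc ⟨⟨a, hno⟩⟩

theorem ne_one_of_not_mem {a b : A} (hb : b ∉ zpowers a) : b ≠ 1 := fun hb1 =>
  hb (hb1 ▸ one_mem _)

theorem not_mem_swap {a b : A} (ha : a ≠ 1) (hb : b ∉ zpowers a) : a ∉ zpowers b := fun hab =>
  hb (h.mem_zpowers_swap ha hab)

omit h in
theorem smul_eq_of_mem_zpowers {a b : A} {x : G} (hb : b ∈ zpowers a) (hx : a • x = x) :
    b • x = x :=
  zpowers_le.2 (show a ∈ MulAction.stabilizer A x from hx) hb

theorem eq_one_of_fixed {a b : A} (ha : a ≠ 1) (hb : b ∉ zpowers a) {x : G} (hax : a • x = x)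
    (hbx : b • x = x) : x = 1 :=
  h.fixA x fun c => by
    have := h.eq_top ha hb (MulAction.stabilizer A x) hax hbx
    exact (this ▸ mem_top c : c ∈ MulAction.stabilizer A x)

theorem smul_swap (a b : A) (x : G) : a • b • x = b • a • x := by
  rw [smul_smul, smul_smul, h.comm]

theorem inv_fx (a : A) : Inv A (fx G a) := fun b x hx => by
  show a • b • x = b • x
  rw [h.smul_swap, hx]

end Hyp

/-- The action on an invariant subgroup. -/
@[reducible] def subAct (K : Subgroup G) (hK : Inv A K) : MulDistribMulAction A K where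
  smul a x := ⟨a • (x : G), hK a x x.2⟩
  one_smul x := Subtype.ext (one_smul A (x : G))
  mul_smul a b x := Subtype.ext (mul_smul a b (x : G))
  smul_mul a x y := Subtype.ext (smul_mul' a (x : G) (y : G))
  smul_one a := Subtype.ext (smul_one a)

theorem inv_map_eq [Finite G] {K : Subgroup G} (hK : Inv A K) (a : A) :
    K.map (MulDistribMulAction.toMulAut A G a).toMonoidHom = K := by
  refine eq_of_le_of_card_ge ?_ (le_of_eq (card_map_of_injective
    (MulDistribMulAction.toMulAut A G a).injective).symm)
  rintro _ ⟨x, hx, rfl⟩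
  exact hK a x hx

/-- The action on the quotient by an invariant normal subgroup. -/
@[reducible] def quotAct [Finite G] (N : Subgroup G) [N.Normal] (hN : Inv A N) :
    MulDistribMulAction A (G ⧸ N) :=
  MulDistribMulAction.compHom (G ⧸ N)
    ({ toFun := fun a => QuotientGroup.congr N N (MulDistribMulAction.toMulAut A G a)
          (inv_map_eq hN a)
       map_one' := by
        refine MulEquiv.ext fun x => ?_
        induction x using QuotientGroup.induction_on with
        | _ x => exact congrArg (QuotientGroup.mk (s := N)) (one_smul A x)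
       map_mul' := fun a b => by
        refine MulEquiv.ext fun x => ?_
        induction x using QuotientGroup.induction_on with
        | _ x => exact congrArg (QuotientGroup.mk (s := N)) (mul_smul a b x) } :
      A →* MulAut (G ⧸ N))

theorem quotAct_mk [Finite G] (N : Subgroup G) [N.Normal] (hN : Inv A N) (a : A) (x : G) :
    letI := quotAct N hN
    a • (x : G ⧸ N) = ((a • x : G) : G ⧸ N) := rfl

namespace Hyp

variable {q : ℕ} (h : Hyp A G q) [Finite G]
include h

theorem exists_fixed_lift {D : Subgroup G} (hD : Inv A D) {a : A} {x : G}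
    (hx : x⁻¹ * (a • x) ∈ D) : ∃ d ∈ D, a • (x * d) = x * d := by
  have := h.finA
  let S : Subgroup A :=
    { carrier := {b | x⁻¹ * (b • x) ∈ D}
      one_mem' := by simp
      mul_mem' := fun {b c} hb hc => by
        show x⁻¹ * ((b * c) • x) ∈ D
        have : x⁻¹ * ((b * c) • x) = (x⁻¹ * (b • x)) * (b • (x⁻¹ * (c • x))) := by
          simp [smul_mul', smul_inv', mul_smul, mul_assoc]
        rw [this]
        exact mul_mem hb (hD b _ hc)
      inv_mem' := fun {b} hb => by
        show x⁻¹ * (b⁻¹ • x) ∈ D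
        have : x⁻¹ * (b⁻¹ • x) = (b⁻¹ • (x⁻¹ * (b • x)))⁻¹ := by
          simp [smul_mul', smul_inv', mul_assoc]
        rw [this]
        exact inv_mem (hD _ _ hb) }
  obtain ⟨d, hd, hfix⟩ := Solvable.exists_smul_fixed_mem_coset (A := zpowers a) (K := G)
    (h.coprime.coprime_dvd_left (card_subgroup_dvd_card _))
    (Or.inl (Group.isSolvable_of_comm fun b c => Subtype.ext (h.comm b c))) (D := D)
    (fun b y hy => hD b y hy) (x := x)
    (fun b => (zpowers_le.2 (show a ∈ S from hx) b.2 : (b : A) ∈ S))
  exact ⟨d, hd, hfix ⟨a, mem_zpowers a⟩⟩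

theorem exists_fixed_lift_all {D : Subgroup G} (hD : Inv A D) {x : G}
    (hx : ∀ a : A, x⁻¹ * (a • x) ∈ D) : ∃ d ∈ D, ∀ a : A, a • (x * d) = x * d := by
  have := h.finA
  exact Solvable.exists_smul_fixed_mem_coset h.coprime (Or.inl h.solvA) hD hx

theorem restrict {K : Subgroup G} (hK : Inv A K) :
    letI := subAct K hK
    Hyp A K q :=
  letI := subAct K hK
  { qp := h.qp
    cardA := h.cardA
    comm := h.comm
    pow := h.pow
    ncyc := h.ncyc
    cop := fun hd => h.cop (hd.trans K.card_subgroup_dvd_card)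
    ab := fun a ha x y hx hy =>
      Subtype.ext (h.ab a ha x y (congrArg Subtype.val hx) (congrArg Subtype.val hy))
    fixA := fun g hg => Subtype.ext (h.fixA g fun a => congrArg Subtype.val (hg a)) }

theorem quot (N : Subgroup G) [N.Normal] (hN : Inv A N) :
    letI := quotAct N hN
    Hyp A (G ⧸ N) q :=
  letI := quotAct N hN
  { qp := h.qp
    cardA := h.cardA
    comm := h.comm
    pow := h.pow
    ncyc := h.ncyc
    cop := fun hd => h.cop (hd.trans N.card_quotient_dvd_card)
    ab := fun a ha x y hx hy => by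
      induction x using QuotientGroup.induction_on with
      | _ x =>
      induction y using QuotientGroup.induction_on with
      | _ y =>
      rw [quotAct_mk, QuotientGroup.eq] at hx hy
      obtain ⟨d, hd, hxd⟩ := h.exists_fixed_lift hN (a := a) (x := x)
        (by simpa using inv_mem hx)
      obtain ⟨e, he, hye⟩ := h.exists_fixed_lift hN (a := a) (x := y)
        (by simpa using inv_mem hy)
      have := congrArg (QuotientGroup.mk (s := N)) (h.ab a ha _ _ hxd hye)
      simpa [QuotientGroup.mk_mul, (QuotientGroup.eq_one_iff d).2 hd,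
        (QuotientGroup.eq_one_iff e).2 he] using this
    fixA := fun g hg => by
      induction g using QuotientGroup.induction_on with
      | _ x =>
      obtain ⟨d, hd, hxd⟩ := h.exists_fixed_lift_all hN (x := x) fun a => by
        have := hg a
        rw [quotAct_mk, QuotientGroup.eq] at this
        simpa using inv_mem this
      have h1 := congrArg (QuotientGroup.mk (s := N)) (h.fixA _ hxd)
      rwa [QuotientGroup.mk_mul_of_mem x hd, QuotientGroup.mk_one] at h1 }

/-- An invariant subgroup is generated by the elements fixed by a nontrivial element of `A`. -/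
theorem le_of_fixed {K W : Subgroup G} (hK : Inv A K)
    (hW : ∀ a : A, a ≠ 1 → ∀ x ∈ K, a • x = x → x ∈ W) : K ≤ W := by
  have := h.finA
  have := h.isMulComm
  let _ := subAct K hK
  have hr := h.restrict hK
  have := Solvable.eq_top_of_smul_fixed_mem (A := A) (K := K) h.ncyc hr.coprime (W.subgroupOf K)
    fun a ha k hk => mem_subgroupOf.2 (hW a ha k k.2 (congrArg Subtype.val hk))
  exact subgroupOf_eq_top.1 this

/-- Fixed points on `b ∈ ⟨m⟩` are fixed by `m`. -/
theorem fixed_of_mem {a m : A} (ha : a ≠ 1) (hm : a ∈ zpowers m) {x : G} (hx : a • x = x) :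
    m • x = x :=
  smul_eq_of_mem_zpowers (h.mem_zpowers_swap ha hm) hx

/-- Splitting along one cyclic subgroup of `A`. -/
theorem le_of_fixed' {K W : Subgroup G} (hK : Inv A K) (m : A)
    (hm : ∀ x ∈ K, m • x = x → x ∈ W)
    (hW : ∀ b : A, b ∉ zpowers m → ∀ x ∈ K, b • x = x → x ∈ W) : K ≤ W :=
  h.le_of_fixed hK fun a ha x hxK hx => by
    by_cases hmem : a ∈ zpowers m
    · exact hm x hxK (h.fixed_of_mem ha hmem hx)
    · exact hW a hmem x hxK hx

end Hyp

end CfsgLib.RankTwoFpf
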