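import Cfsg.Agent.Lib.RankTwoFpf.Maximal
import Cfsg.Agent.Lib.Solvable.CoprimeAbelian

/-!
A Sylow subgroup moving the centre of another Fitting component.
-/

set_option autoImplicit false
set_option linter.style.haveILetI false
set_option linter.unusedSectionVars false

namespace CfsgLib.RankTwoFpf

open Subgroup
open scoped commutatorElement Pointwise

variable {A G : Type*} [Group A] [Group G] [MulDistribMulAction A G]

theorem normalizer_le_centralizer_normalizer (K : Subgroup G) :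
    normalizer (K : Set G) ≤ normalizer (centralizer (K : Set G) : Set G) := by
  intro x hx
  rw [mem_normalizer_iff]
  intro y
  constructor
  · intro h z hz
    have := h _ ((mem_normalizer_iff''.1 hx z).1 hz)
    calc z * (x * y * x⁻¹) = x * ((x⁻¹ * z * x) * y) * x⁻¹ := by group
      _ = x * (y * (x⁻¹ * z * x)) * x⁻¹ := by rw [this]
      _ = x * y * x⁻¹ * z := by group
  · intro h z hz
    have := h _ ((mem_normalizer_iff.1 hx z).1 hz)
    calc z * y = x⁻¹ * ((x * z * x⁻¹) * (x * y * x⁻¹)) * x := by group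
      _ = x⁻¹ * ((x * y * x⁻¹) * (x * z * x⁻¹)) * x := by rw [this]
      _ = y * z := by group

variable [Finite G] {q : ℕ}

theorem le_normalizer_z0 {M : Subgroup G} {r : ℕ} [Fact r.Prime] :
    M ≤ normalizer (Z0 r M : Set G) := fun _ hm =>
  inf_normalizer_le_normalizer_inf
    ⟨le_normalizer_op hm, normalizer_le_centralizer_normalizer _ (le_normalizer_op hm)⟩

theorem inv_z0 {M : Subgroup G} (hM : Inv A M) (r : ℕ) : Inv A (Z0 r M) :=
  (inv_piCoreOf hM _).inf (inv_piCoreOf hM _).centralizer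

variable (h : Min A G q)
include h

theorem Min.case_one {M : Subgroup G} (hM : IsMax A M) {r s : ℕ} [Fact r.Prime] [Fact s.Prime]
    (hrs : r ≠ s) (hnc : ¬ Sy A G s ⊓ M ≤ centralizer (Z0 r M : Set G)) :
    ∃ a : A, a ≠ 1 ∧ M ⊓ fx G a ≠ ⊥ ∧ ∀ c, c ∉ zpowers a → fx G c ≤ M := by
  classical
  haveI := h.finA
  set P := Sy A G s ⊓ M with hP
  have hPi : Inv A P := (h.inv_sy s).inf hM.inv
  obtain ⟨a, ha, y0, hy0, hy0a, hy0c⟩ : ∃ a : A, a ≠ 1 ∧ ∃ x ∈ P, a • x = x ∧
      x ∉ centralizer (Z0 r M : Set G) := by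
    by_contra hno
    push Not at hno
    exact hnc (h.le_of_fixed hPi hno)
  set Y := P ⊓ fx G a with hY
  have hYi : Inv A Y := hPi.inf (h.inv_fx a)
  have hYs : IsPGroup s Y := (h.isPGroup_sy s).to_le (inf_le_left.trans inf_le_left)
  have hYM : Y ≤ M := inf_le_left.trans inf_le_right
  have hZr : IsPGroup r (Z0 r M) := op_isPGroup.to_le inf_le_left
  haveI hZc : IsMulCommutative (Z0 r M) := le_centralizer_iff_isMulCommutative.1
    fun x hx => Subgroup.centralizer_le inf_le_left hx.2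
  have hYZ : Y ≤ normalizer (Z0 r M : Set G) := hYM.trans le_normalizer_z0
  have hcop : (Nat.card Y).Coprime (Nat.card (Z0 r M)) :=
    IsPGroup.coprime_card_of_ne s r (Ne.symm hrs) _ _ hYs hZr
  set U := ⁅Z0 r M, Y⁆ with hU
  have hUZ : U ≤ Z0 r M := Solvable.commutator_le_of_normalizes hYZ
  have hUO : U ≤ Op r M := hUZ.trans inf_le_left
  have hUM : U ≤ M := hUO.trans op_le
  have hU0 : U ≠ ⊥ := fun h0 => hy0c
    (le_centralizer_iff.1 (commutator_eq_bot_iff_le_centralizer.1 h0) ⟨hy0, hy0a⟩)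
  have hUY : ⁅U, Y⁆ = U :=
    Solvable.commutator_commutator_eq hYZ hcop
      (Or.inr (Group.isSolvable_of_comm fun a b => Subtype.ext (setLike_mul_comm a.2 b.2)))
  have hUCY : U ⊓ centralizer (Y : Set G) = ⊥ := by
    rw [eq_bot_iff, ← Solvable.centralizer_inf_commutator_eq_bot hYZ hcop]
    exact le_inf (inf_le_inf_right _ hUZ) inf_le_left
  have hUfa : U ⊓ fx G a = ⊥ := by
    rw [eq_bot_iff, ← hUCY]
    exact le_inf inf_le_left fun x hx y hy => h.ab a ha y x hy.2 hx.2
  have hUi : Inv A U := (inv_z0 hM.inv r).commutator hYi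
  have hOZ : ∀ t : ℕ, t.Prime → Op t M ≤ centralizer (Z0 r M : Set G) := by
    intro t ht
    by_cases htr : t = r
    · subst htr
      exact le_centralizer_iff.1 inf_le_right
    · exact (op_comm htr).trans (Subgroup.centralizer_le inf_le_left)
  have hOU : ∀ t : ℕ, t.Prime → Op t M ≤ centralizer (U : Set G) := fun t ht =>
    (hOZ t ht).trans (Subgroup.centralizer_le hUZ)
  have hMU : M ≤ normalizer (U : Set G) :=
    h.normal_commutator (r := s) hM.inv hM.ne_top hYi inf_le_left le_normalizer_z0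
      (hOZ s (Fact.out)) fun t ht => (hOU t ht).trans (centralizer_le_normalizer _)
  have hCU : centralizer (U : Set G) ≤ M := h.centralizer_le hM hUi hUM hU0 hMU
  have hM0 : M ≠ ⊥ := fun hb => hU0 (eq_bot_iff.2 (hb ▸ hUM))
  have hOr0 : Op r M ≠ ⊥ := fun hb => hU0 (eq_bot_iff.2 (hb ▸ hUO))
  have hY0 : M ⊓ fx G a ≠ ⊥ := fun hb => hy0c (by
    have h1 : y0 ∈ (⊥ : Subgroup G) := hb ▸ (⟨hy0.2, hy0a⟩ : y0 ∈ M ⊓ fx G a)
    rw [mem_bot] at h1
    rw [h1]
    exact one_mem _)
  have hUcomm : ∀ x ∈ U, ∀ y ∈ U, x * y = y * x := fun x hx y hy =>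
    setLike_mul_comm (hUZ hx) (hUZ hy)
  refine ⟨a, ha, hY0, fun c hc => ?_⟩
  have hc1 := h.ne_one_of_not_mem hc
  -- `c` fixes a nontrivial element of `U`
  have hUc : U ⊓ fx G c ≠ ⊥ := by
    let W : Subgroup G :=
      { carrier := {x | x ∈ U ∧ x ^ r = 1}
        one_mem' := ⟨U.one_mem, one_pow _⟩
        mul_mem' := fun {a b} ha hb => ⟨U.mul_mem ha.1 hb.1, by
          rw [(show Commute a b from hUcomm a ha.1 b hb.1).mul_pow, ha.2, hb.2, one_mul]⟩
        inv_mem' := fun {a} ha => ⟨U.inv_mem ha.1, by rw [inv_pow, ha.2, inv_one]⟩ }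
    have hWi : Inv A W := fun b x hx => ⟨hUi b x hx.1, by rw [← smul_pow', hx.2, smul_one]⟩
    have hYW : Y ≤ normalizer (W : Set G) := by
      rw [le_normalizer_iff]
      intro y hy x hx
      exact ⟨((mem_normalizer_iff.1 (hMU (hYM hy))) x).1 hx.1, by
        rw [conj_pow, hx.2, mul_one, mul_inv_cancel]⟩
    haveI : Nontrivial W := by
      obtain ⟨n, hn⟩ := ((op_isPGroup (r := r) (M := M)).to_le hUO).exists_card_eq
      have hn0 : n ≠ 0 := by
        rintro rfl
        exact hU0 (card_eq_one.1 (by rw [hn, pow_zero]))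
      obtain ⟨x, hx⟩ := exists_prime_orderOf_dvd_card' (G := U) r (hn ▸ dvd_pow_self r hn0)
      refine (nontrivial_iff_ne_bot _).2 fun hb => ?_
      have hxW : (x : G) ∈ W := ⟨x.2, by rw [← coe_pow, ← hx, pow_orderOf_eq_one, coe_one]⟩
      rw [hb, mem_bot] at hxW
      rw [← orderOf_coe, hxW, orderOf_one] at hx
      exact (Fact.out : r.Prime).one_lt.ne hx
    letI : CommGroup W :=
      { (inferInstance : Group W) with
        mul_comm := fun a b => Subtype.ext (hUcomm a a.2.1 b b.2.1) }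
    letI := subAct Y hYi
    haveI := Fintype.ofFinite Y
    obtain ⟨⟨v, hv1, hv⟩, -⟩ := fpf_fixed_module (r := r) (h.toHyp.restrict hYi)
      (M := W) (fun v => Subtype.ext v.2.2)
      (fun hd => by
        obtain ⟨n, hn⟩ := hYs.exists_card_eq
        rw [hn] at hd
        exact hrs ((Nat.prime_dvd_prime_iff_eq (Fact.out) (Fact.out : s.Prime)).1
          ((Fact.out : r.Prime).dvd_of_dvd_pow hd)))
      (conjHom Y W hYW) (actHom W hWi) (fun b y => conjHom_compat hYW hYi hWi b y)
      (fun b hb u hu v hv => Subtype.ext (by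
        rw [conjHom_apply, h.ab b hb u v (congrArg Subtype.val hu) (congrArg Subtype.val hv),
          mul_inv_cancel_right]))
      (fun v hv => Subtype.ext (h.fixA v fun b => congrArg Subtype.val (hv b)))
      (fun v => by
        set Pr := ∏ g : Y, conjHom Y W hYW g v with hPr
        have hfx : ∀ y : Y, conjHom Y W hYW y Pr = Pr := fun y => by
          rw [hPr, map_prod]
          exact Fintype.prod_equiv (Equiv.mulLeft y) _ _ fun x => by
            rw [Equiv.coe_mulLeft, map_mul]; rfl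
        have hmem : (Pr : G) ∈ U ⊓ centralizer (Y : Set G) := ⟨Pr.2.1, fun y hy => by
          have h1 : y * (Pr : G) * y⁻¹ = Pr := congrArg Subtype.val (hfx ⟨y, hy⟩)
          rwa [mul_inv_eq_iff_eq_mul] at h1⟩
        rw [hUCY, mem_bot] at hmem
        exact Subtype.ext hmem)
      (a := a) (c := c) ha (fun y => Subtype.ext y.2.2) hc
    intro hb
    have hvU : (v : G) ∈ U ⊓ fx G c := ⟨v.2.1, congrArg Subtype.val hv⟩
    rw [hb, mem_bot] at hvU
    exact hv1 (Subtype.ext hvU)
  obtain ⟨H, hH, hXH, hfH, -⟩ := h.exists_max_centralizer (hUi.inf (h.inv_fx c)) hUc hc1 inf_le_right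
  have hFM : Cfsg.fittingOf M ≤ H :=
    fit_le fun t ht => (hOU t ht).trans ((Subgroup.centralizer_le inf_le_left).trans hXH)
  suffices hFH : Cfsg.fittingOf H ≤ M by
    rw [← h.eq_of_fit_le hM hH hM0 hFM hFH]
    exact hfH
  refine fit_le fun u hu => ?_
  haveI := Fact.mk hu
  by_cases hOu : Op u M = ⊥
  · -- `O_u(M) = 1`
    have hur : u ≠ r := by rintro rfl; exact hOr0 hOu
    set D := Op u H with hD
    have hDM : D ⊓ M = ⊥ := by
      have hFC : Cfsg.fittingOf M ≤ centralizer ((D ⊓ M : Subgroup G) : Set G) := by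
        refine fit_le fun t ht => ?_
        by_cases htu : t = u
        · rw [htu, hOu]; exact bot_le
        haveI := Fact.mk ht
        refine OddOrder.commute_of_normalize_disjoint (fun x hx => ?_)
          (inf_le_right.trans le_normalizer_op)
          (IsPGroup.disjoint_of_ne t u htu _ _ op_isPGroup (op_isPGroup.to_le inf_le_left))
        exact inf_normalizer_le_normalizer_inf
          ⟨le_normalizer_op ((op_le_fit.trans hFM) hx), le_normalizer (op_le hx)⟩
      rw [eq_bot_iff]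
      intro x hx
      have hxF := h.fit_centralizer_le hM ⟨hx.2, le_centralizer_iff.1 hFC hx⟩
      obtain ⟨k, hk⟩ := op_isPGroup (r := u) (M := H) ⟨x, hx.1⟩
      exact hOu ▸ mem_op_of_mem_fit hxF (k := k) (congrArg Subtype.val hk)
    have hDCU : D ⊓ centralizer (U : Set G) = ⊥ := by
      rw [eq_bot_iff, ← hDM]; exact inf_le_inf_left _ hCU
    by_contra hDle
    have hD0 : D ≠ ⊥ := fun hb => hDle (hb ▸ bot_le)
    let D1 : Subgroup G :=
      { carrier := {x | x ∈ D ∧ x ∈ centralizer (D : Set G) ∧ x ^ u = 1}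
        one_mem' := ⟨D.one_mem, one_mem _, one_pow _⟩
        mul_mem' := fun {a b} ha hb => ⟨D.mul_mem ha.1 hb.1, mul_mem ha.2.1 hb.2.1, by
          rw [(show Commute a b from hb.2.1 a ha.1).mul_pow, ha.2.2, hb.2.2, one_mul]⟩
        inv_mem' := fun {a} ha =>
          ⟨D.inv_mem ha.1, inv_mem ha.2.1, by rw [inv_pow, ha.2.2, inv_one]⟩ }
    have hD1i : Inv A D1 := fun b x hx => ⟨inv_piCoreOf hH.inv _ b x hx.1,
      (inv_piCoreOf hH.inv _).centralizer b x hx.2.1, by rw [← smul_pow', hx.2.2, smul_one]⟩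
    have hUH : U ≤ H := (hUO.trans op_le_fit).trans hFM
    have hD1n : U ≤ normalizer (D1 : Set G) := by
      rw [le_normalizer_iff]
      intro v hv x hx
      have hvD := le_normalizer_op (r := u) (hUH hv)
      exact ⟨((mem_normalizer_iff.1 hvD) x).1 hx.1,
        ((mem_normalizer_iff.1 (normalizer_le_centralizer_normalizer _ hvD)) x).1 hx.2.1, by
          rw [conj_pow, hx.2.2, mul_one, mul_inv_cancel]⟩
    have hD10 : D1 ≠ ⊥ := by
      haveI : Nontrivial D := (nontrivial_iff_ne_bot _).2 hD0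
      have hDp : IsPGroup u D := op_isPGroup
      haveI := hDp.center_nontrivial
      obtain ⟨n, hn⟩ := (hDp.to_subgroup (center D)).exists_card_eq
      have hn0 : n ≠ 0 := by
        rintro rfl
        exact (Finite.one_lt_card (α := center D)).ne' (by rw [hn, pow_zero])
      obtain ⟨z, hz⟩ := exists_prime_orderOf_dvd_card' (G := center D) u (hn ▸ dvd_pow_self u hn0)
      intro hb
      have hzD : (((z : D) : G)) ∈ D1 := ⟨(z : D).2, fun d hd =>
        congrArg Subtype.val (mem_center_iff.1 z.2 ⟨d, hd⟩), by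
          rw [← coe_pow, ← coe_pow, ← hz, pow_orderOf_eq_one, coe_one, coe_one]⟩
      rw [hb, mem_bot] at hzD
      rw [← orderOf_coe, ← orderOf_coe, hzD, orderOf_one] at hz
      exact hu.one_lt.ne hz
    obtain ⟨D0, hD0m⟩ := Set.Finite.exists_minimal
      (Set.toFinite {X : Subgroup G | X ≤ D1 ∧ X ≠ ⊥ ∧ Inv A X ∧ U ≤ normalizer (X : Set G)})
      ⟨D1, le_rfl, hD10, hD1i, hD1n⟩
    obtain ⟨hD01, hD00, hD0i, hUD0⟩ := hD0m.prop
    haveI : Nontrivial D0 := (nontrivial_iff_ne_bot _).2 hD00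
    letI : CommGroup D0 :=
      { (inferInstance : Group D0) with
        mul_comm := fun a b => Subtype.ext ((hD01 b.2).2.1 a (hD01 a.2).1) }
    letI := subAct U hUi
    obtain ⟨m, hm1, ⟨u0, hu01, hu0⟩, hmb⟩ := fpf_abelian_module (r := u) (h.toHyp.restrict hUi)
      (M := D0) (fun v => Subtype.ext (hD01 v.2).2.2)
      (fun hd => by
        obtain ⟨n, hn⟩ := ((op_isPGroup (r := r) (M := M)).to_le hUO).exists_card_eq
        rw [hn] at hd
        exact hur ((Nat.prime_dvd_prime_iff_eq hu (Fact.out : r.Prime)).1 (hu.dvd_of_dvd_pow hd)))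
      (fun g g' => Subtype.ext (hUcomm g g.2 g' g'.2))
      (conjHom U D0 hUD0) (actHom D0 hD0i) (fun b y => conjHom_compat hUD0 hUi hD0i b y)
      (fun b hb w hw v hv => Subtype.ext (by
        rw [conjHom_apply, h.ab b hb w v (congrArg Subtype.val hw) (congrArg Subtype.val hv),
          mul_inv_cancel_right]))
      (fun v hv => Subtype.ext (h.fixA v fun b => congrArg Subtype.val (hv b)))
      (fun v hv => Subtype.ext (by
        have hmem : (v : G) ∈ D ⊓ centralizer (U : Set G) := ⟨(hD01 v.2).1, fun w hw => by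
          have h1 : w * (v : G) * w⁻¹ = v := congrArg Subtype.val (hv ⟨w, hw⟩)
          rwa [mul_inv_eq_iff_eq_mul] at h1⟩
        rwa [hDCU, mem_bot] at hmem))
    have ham : a ∉ zpowers m := fun ham => by
      have h1 : ((u0 : U) : G) ∈ U ⊓ fx G a :=
        ⟨u0.2, Hyp.smul_eq_of_mem_zpowers ham (congrArg Subtype.val hu0)⟩
      rw [hUfa, mem_bot] at h1
      exact hu01 (Subtype.ext h1)
    -- the fixed points off `⟨m⟩` centralise `D0`
    have hbc : ∀ b, b ∉ zpowers m → ∀ w ∈ U, b • w = w → ∀ x ∈ D0, w * x = x * w := by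
      intro b hb w hw hbw x hx
      obtain ⟨v, hv1, hvfix⟩ := (hmb b hb).2
      set C := D0 ⊓ centralizer ((U ⊓ fx G b : Subgroup G) : Set G) with hC
      have hC0 : C = D0 := by
        refine le_antisymm inf_le_left (hD0m.2 ⟨inf_le_left.trans hD01, ?_, ?_, ?_⟩ inf_le_left)
        · intro hb0
          have hvC : (v : G) ∈ C := ⟨v.2, fun w hw => by
            have h1 : w * (v : G) * w⁻¹ = v :=
              congrArg Subtype.val (hvfix ⟨w, hw.1⟩ (Subtype.ext hw.2))
            rwa [mul_inv_eq_iff_eq_mul] at h1⟩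
          rw [hb0, mem_bot] at hvC
          exact hv1 (Subtype.ext hvC)
        · exact hD0i.inf (hUi.inf (h.inv_fx b)).centralizer
        · rw [le_normalizer_iff]
          intro z hz y hy
          refine ⟨((mem_normalizer_iff.1 (hUD0 hz)) y).1 hy.1, fun w hw => ?_⟩
          have h1 : w * y = y * w := hy.2 w hw
          have h2 : w * z = z * w := hUcomm w hw.1 z hz
          calc w * (z * y * z⁻¹) = z * (w * y) * z⁻¹ := by rw [← mul_assoc, ← mul_assoc, h2]; group
            _ = z * y * (w * z⁻¹) := by rw [h1]; group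
            _ = z * y * (z⁻¹ * w) := by
              rw [show w * z⁻¹ = z⁻¹ * w from (hUcomm w hw.1 z⁻¹ (U.inv_mem hz))]
            _ = z * y * z⁻¹ * w := by group
      rw [← hC0] at hx
      exact hx.2 w ⟨hw, hbw⟩
    set d := D0 ⊓ fx G a with hd
    have hd0 : d ≠ ⊥ := by
      obtain ⟨v, hv1, hv⟩ := (hmb a ham).1
      intro hb
      have hvd : (v : G) ∈ d := ⟨v.2, congrArg Subtype.val hv⟩
      rw [hb, mem_bot] at hvd
      exact hv1 (Subtype.ext hvd)
    set K' := U ⊓ centralizer (d : Set G) with hK'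
    have hdi : Inv A d := hD0i.inf (h.inv_fx a)
    have hK'i : Inv A K' := hUi.inf hdi.centralizer
    have hYK : Y ≤ normalizer (K' : Set G) := fun y hy => inf_normalizer_le_normalizer_inf
      ⟨hMU (hYM hy), normalizer_le_centralizer_normalizer _ (centralizer_le_normalizer _
        fun z hz => h.ab a ha z y hz.2 hy.2)⟩
    let W : Subgroup G :=
      { carrier := {v | v ∈ U ∧ v⁻¹ * (m • v) ∈ K'}
        one_mem' := ⟨U.one_mem, by simp⟩
        mul_mem' := fun {v w} hv hw => ⟨U.mul_mem hv.1 hw.1, by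
          have h1 : (v * w)⁻¹ * (m • (v * w)) = (v⁻¹ * (m • v)) * (w⁻¹ * (m • w)) := by
            rw [smul_mul', mul_inv_rev, mul_assoc w⁻¹, ← mul_assoc v⁻¹, ← mul_assoc w⁻¹,
              hUcomm w⁻¹ (U.inv_mem hw.1) _ (U.mul_mem (U.inv_mem hv.1) (hUi m v hv.1)),
              mul_assoc]
          rw [h1]
          exact K'.mul_mem hv.2 hw.2⟩
        inv_mem' := fun {v} hv => ⟨U.inv_mem hv.1, by
          rw [smul_inv', inv_inv,
            hUcomm v hv.1 _ (U.inv_mem (hUi m v hv.1))]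
          simpa using K'.inv_mem hv.2⟩ }
    have hUW : U ≤ W := h.le_of_fixed' hUi m
      (fun v hv hfix => ⟨hv, by rw [hfix, inv_mul_cancel]; exact K'.one_mem⟩)
      fun b hb v hv hfix => by
        have hvK : v ∈ K' := ⟨hv, fun z hz => (hbc b hb v hv hfix z hz.1).symm⟩
        exact ⟨hv, K'.mul_mem (K'.inv_mem hvK) (hK'i m v hvK)⟩
    let f : Y → Y := fun y => ⟨(m • (y : G))⁻¹ * y, Y.mul_mem (Y.inv_mem (hYi m y y.2)) y.2⟩
    have hYcomm : ∀ x ∈ Y, ∀ z ∈ Y, x * z = z * x := fun x hx z hz => h.ab a ha x z hx.2 hz.2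
    have hfs : Function.Surjective f := by
      refine Finite.injective_iff_surjective.1 fun y z hyz => Subtype.ext ?_
      have h1 : (m • (y : G))⁻¹ * y = (m • (z : G))⁻¹ * z := congrArg Subtype.val hyz
      have h2 : m • ((y : G) * (z : G)⁻¹) = (y : G) * (z : G)⁻¹ := by
        rw [smul_mul', smul_inv']
        calc m • (y : G) * (m • (z : G))⁻¹
            = m • (y : G) * ((m • (z : G))⁻¹ * z) * (z : G)⁻¹ := by group
          _ = m • (y : G) * ((m • (y : G))⁻¹ * y) * (z : G)⁻¹ := by rw [h1]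
          _ = _ := by group
      have h3 : a • ((y : G) * (z : G)⁻¹) = (y : G) * (z : G)⁻¹ :=
        (Y.mul_mem y.2 (Y.inv_mem z.2)).2
      exact mul_inv_eq_one.1 (h.eq_one_of_fixed hm1 ham h2 h3)
    have hkey : ∀ z ∈ Y, ∀ v ∈ U, v⁻¹ * (z * v * z⁻¹) ∈ K' := by
      intro z hz v hv
      obtain ⟨⟨y, hy⟩, hyz⟩ := hfs ⟨z, hz⟩
      have hyz' : (m • y)⁻¹ * y = z := congrArg Subtype.val hyz
      set Z := m • y with hZ
      have hZY : Z ∈ Y := hYi m y hy
      have hwU : y * v * y⁻¹ ∈ U := ((mem_normalizer_iff.1 (hMU (hYM hy))) v).1 hv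
      have h1 := (hUW hwU).2
      have h2 := (hUW hv).2
      rw [smul_mul', smul_mul', smul_inv', ← hZ] at h1
      have h3 : Z * (v⁻¹ * (m • v))⁻¹ * Z⁻¹ ∈ K' :=
        ((mem_normalizer_iff.1 (hYK hZY)) _).1 (K'.inv_mem h2)
      have h4 := ((mem_normalizer_iff''.1 (hYK hZY)) _).1 (K'.mul_mem h1 h3)
      have h5 : (z * v * z⁻¹)⁻¹ * v ∈ K' := by
        convert h4 using 1
        rw [← hyz']
        group
      have hzU : z * v * z⁻¹ ∈ U := ((mem_normalizer_iff.1 (hMU (hYM hz))) v).1 hv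
      have := K'.inv_mem h5
      rwa [mul_inv_rev, inv_inv] at this
    have hUK : U ≤ K' := by
      rw [← hUY, commutator_le]
      intro v hv z hz
      have h1 := K'.inv_mem (hkey z hz v hv)
      have h2 : (v⁻¹ * (z * v * z⁻¹))⁻¹ = ⁅v, z⁆ := by
        rw [commutatorElement_def, mul_inv_rev, inv_inv]
        have hzU : (z * v * z⁻¹)⁻¹ ∈ U :=
          U.inv_mem (((mem_normalizer_iff.1 (hMU (hYM hz))) v).1 hv)
        rw [hUcomm _ hzU v hv]
        group
      rwa [h2] at h1
    refine hd0 (eq_bot_iff.2 ?_)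
    rw [← hDCU]
    exact le_inf (inf_le_left.trans (hD01.trans fun x hx => hx.1))
      (le_centralizer_iff.1 (fun v hv => (hUK hv).2))
  · by_cases hall : ∀ t : ℕ, t.Prime → t ≠ u → Op t M = ⊥
    · exact (le_sy op_isPGroup (inv_piCoreOf hH.inv _)).trans (h.sy_le hM hOu hall)
    push Not at hall
    obtain ⟨t, ht, htu, ht0⟩ := hall
    haveI := Fact.mk ht
    have hnorm : ∀ v : ℕ, v.Prime → Op v M ≤ normalizer (Op u H : Set G) := fun v hv => by
      haveI := Fact.mk hv
      exact (op_le_fit.trans hFM).trans le_normalizer_op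
    have hQ : Op t M ≤ centralizer (Op u H : Set G) := by
      refine Solvable.thompson_pxq (p := u) (P := Op u M) op_isPGroup ?_ op_isPGroup
        (op_comm (Ne.symm htu)) (hnorm u hu) (hnorm t ht) ?_
      · obtain ⟨n, hn⟩ := (op_isPGroup (r := t) (M := M)).exists_card_eq
        rw [hn]
        exact ((Nat.coprime_primes ht hu).2 htu).pow_left n
      · rintro x ⟨hxD, hxC⟩ y hy
        have hxM : x ∈ M := h.centralizer_le hM (inv_piCoreOf hM.inv _) op_le hOu le_normalizer_op hxC
        have h1 : y * x * y⁻¹ * x⁻¹ ∈ Op u H :=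
          mul_mem (((mem_normalizer_iff.1 (hnorm t ht hy)) x).1 hxD) (inv_mem hxD)
        have h2 : y * x * y⁻¹ * x⁻¹ ∈ Op t M := by
          rw [show y * x * y⁻¹ * x⁻¹ = y * (x * y⁻¹ * x⁻¹) by group]
          exact mul_mem hy (((mem_normalizer_iff.1 (le_normalizer_op hxM)) y⁻¹).1 (inv_mem hy))
        have h3 := disjoint_def.1
          (IsPGroup.disjoint_of_ne t u htu _ _ (op_isPGroup (r := t) (M := M))
            (op_isPGroup (r := u) (M := H))) h2 h1
        rw [mul_inv_eq_one, mul_inv_eq_iff_eq_mul] at h3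
        exact h3
    exact (le_centralizer_iff.1 hQ).trans
      (h.centralizer_le hM (inv_piCoreOf hM.inv _) op_le ht0 le_normalizer_op)

end CfsgLib.RankTwoFpf
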