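import Cfsg.Agent.Lib.RankTwoFpf.Maximal
import Cfsg.Agent.Lib.PGroup.Basic

/-!
The Frattini quotient of an `r`-group `R = [R, Y]` as a module.
-/

set_option autoImplicit false
set_option linter.style.haveILetI false
set_option linter.unusedSectionVars false

namespace CfsgLib.RankTwoFpf

open Subgroup
open scoped commutatorElement Pointwise

variable {A G : Type*} [Group A] [Group G] [MulDistribMulAction A G]

/-- Automorphisms act on the Frattini quotient. -/
def fratHom (R : Type*) [Group R] : MulAut R →* MulAut (R ⧸ frattini R) where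
  toFun φ := QuotientGroup.congr _ _ φ (characteristic_iff_map_eq.1 inferInstance φ)
  map_one' := by
    refine MulEquiv.ext fun x => ?_
    induction x using QuotientGroup.induction_on with
    | _ x => rfl
  map_mul' φ ψ := by
    refine MulEquiv.ext fun x => ?_
    induction x using QuotientGroup.induction_on with
    | _ x => rfl

/-- The normaliser acting on the Frattini quotient. -/
def fratConj (R : Subgroup G) :
    ↥(normalizer (R : Set G)) →* MulAut (↥R ⧸ frattini ↥R) :=
  (fratHom R).comp (conjHom (normalizer (R : Set G)) R le_rfl)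

theorem fratConj_mk (R : Subgroup G) (x : normalizer (R : Set G)) (v : R) :
    fratConj R x (v : ↥R ⧸ frattini ↥R) =
      ((conjHom (normalizer (R : Set G)) R le_rfl x v : R) : ↥R ⧸ frattini ↥R) := rfl

variable [Finite G]

theorem fratConj_eq_one_of_mem {R : Subgroup G} {r : ℕ} [Fact r.Prime] (hR : IsPGroup r R)
    (x : normalizer (R : Set G)) (hx : (x : G) ∈ R) : fratConj R x = 1 := by
  refine MulEquiv.ext fun v => ?_
  induction v using QuotientGroup.induction_on with
  | _ v =>
  rw [fratConj_mk, MulAut.one_apply, QuotientGroup.eq]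
  refine PGroup.commutator_le_frattini hR ?_
  have h1 : (conjHom (normalizer (R : Set G)) R le_rfl x v : R)⁻¹ * v = ⁅(⟨x, hx⟩ : R), v⁻¹⁆ :=
    Subtype.ext (by
      rw [coe_mul, coe_inv, conjHom_apply, commutatorElement_def]
      simp [mul_assoc])
  rw [h1]
  exact commutator_mem_commutator (mem_top _) (mem_top _)

theorem fratConj_eq_one_of_centralizes {R : Subgroup G} (x : normalizer (R : Set G))
    (hx : (x : G) ∈ centralizer (R : Set G)) : fratConj R x = 1 := by
  refine MulEquiv.ext fun v => ?_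
  induction v using QuotientGroup.induction_on with
  | _ v =>
  rw [fratConj_mk, MulAut.one_apply]
  refine congrArg _ (Subtype.ext ?_)
  rw [conjHom_apply, ← (hx v v.2), mul_inv_cancel_right]

variable {q : ℕ} (h : Hyp A G q)
include h

/-- `R ⊓ fx c` is nontrivial, and an element commuting with `Y` on the Frattini quotient and
fixing `R ⊓ fx c` centralises `R`. -/
theorem Hyp.frattini_fixed {R Y : Subgroup G} {r : ℕ} [hr : Fact r.Prime] (hR : IsPGroup r R)
    (hR0 : R ≠ ⊥) (hRi : Inv A R) (hYi : Inv A Y) (hYR : Y ≤ normalizer (R : Set G))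
    (hrY : ¬ r ∣ Nat.card Y) (hRY : ⁅R, Y⁆ = R) {a c : A} (ha : a ≠ 1) (hYa : Y ≤ fx G a)
    (hc : c ∉ zpowers a) :
    R ⊓ fx G c ≠ ⊥ ∧ ∀ x : normalizer (R : Set G), ¬ r ∣ orderOf x →
      (∀ (y : G) (hy : y ∈ Y), Commute (fratConj R x) (fratConj R ⟨y, hYR hy⟩)) →
      (∀ k ∈ R ⊓ fx G c, (x : G) * k = k * x) → (x : G) ∈ centralizer (R : Set G) := by
  classical
  haveI := h.finA
  letI : CommGroup (↥R ⧸ frattini ↥R) :=
    { (inferInstance : Group (↥R ⧸ frattini ↥R)) with
      mul_comm := fun u v => by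
        induction u using QuotientGroup.induction_on with
        | _ u =>
        induction v using QuotientGroup.induction_on with
        | _ v =>
        rw [← QuotientGroup.mk_mul, ← QuotientGroup.mk_mul, QuotientGroup.eq]
        refine PGroup.commutator_le_frattini hR ?_
        rw [show (u * v)⁻¹ * (v * u) = ⁅v⁻¹, u⁻¹⁆ by rw [commutatorElement_def]; group]
        exact commutator_mem_commutator (mem_top _) (mem_top _) }
  haveI : Nontrivial (↥R ⧸ frattini ↥R) := by
    haveI : Nontrivial R := (nontrivial_iff_ne_bot _).2 hR0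
    refine QuotientGroup.nontrivial_iff.2 fun he => ?_
    exact (bot_ne_top : (⊥ : Subgroup R) ≠ ⊤) (frattini_nongenerating (by rw [he, bot_sup_eq]))
  have hpow : ∀ v : ↥R ⧸ frattini ↥R, v ^ r = 1 := fun v => by
    induction v using QuotientGroup.induction_on with
    | _ v =>
    rw [← QuotientGroup.mk_pow, QuotientGroup.eq_one_iff]
    exact PGroup.pow_mem_frattini hR v
  letI := subAct R hRi
  have hRh := h.restrict hRi
  have hΦi : Inv A (frattini ↥R) := fun b v hv => by
    have h1 : (frattini ↥R).map (actHom R hRi b).toMonoidHom = frattini ↥R :=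
      characteristic_iff_map_eq.1 inferInstance _
    rw [← h1]
    exact mem_map_of_mem _ hv
  let α : A →* MulAut (↥R ⧸ frattini ↥R) := (fratHom R).comp (actHom R hRi)
  have lift : ∀ b : A, ∀ v, α b v = v → ∃ k : R, b • (k : G) = k ∧ (k : ↥R ⧸ frattini ↥R) = v := by
    intro b v hv
    induction v using QuotientGroup.induction_on with
    | _ v =>
    have hv' : v⁻¹ * (b • v) ∈ frattini ↥R := by
      have h1 : ((b • v : R) : ↥R ⧸ frattini ↥R) = v := hv
      rw [QuotientGroup.eq] at h1
      simpa using inv_mem h1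
    obtain ⟨d, hd, hvd⟩ := hRh.exists_fixed_lift hΦi hv'
    exact ⟨v * d, congrArg Subtype.val hvd, QuotientGroup.mk_mul_of_mem v hd⟩
  letI := subAct Y hYi
  haveI := Fintype.ofFinite Y
  let ρ : Y →* MulAut (↥R ⧸ frattini ↥R) :=
    (fratConj R).comp (Subgroup.inclusion hYR)
  let ν : R →* ↥R ⧸ frattini ↥R :=
    { toFun := fun v => ∏ g : Y, ρ g v
      map_one' := by simp
      map_mul' := fun v w => by simp [Finset.prod_mul_distrib] }
  have hνinv : ∀ (y : Y) (v : R), ν (conjHom Y R hYR y v) = ν v := fun y v => by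
    show ∏ g : Y, ρ g ((conjHom Y R hYR y v : R) : ↥R ⧸ frattini ↥R) = ∏ g : Y, ρ g v
    refine Fintype.prod_equiv (Equiv.mulRight y) _ _ fun g => ?_
    rw [Equiv.coe_mulRight, map_mul]
    rfl
  have hν : ∀ v : R, ν v = 1 := by
    have hle : ⁅R, Y⁆ ≤ ν.ker.map R.subtype := by
      rw [commutator_le]
      intro v hv y hy
      refine mem_map.2 ⟨⟨v, hv⟩ * conjHom Y R hYR ⟨y, hy⟩ ⟨v, hv⟩⁻¹, ?_, ?_⟩
      · rw [MonoidHom.mem_ker, map_mul, hνinv, map_inv, mul_inv_cancel]
      · show v * (y * v⁻¹ * y⁻¹) = ⁅v, y⁆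
        simp [commutatorElement_def, mul_assoc]
    intro v
    obtain ⟨w, hw, hwv⟩ := mem_map.1 (hle (hRY.symm ▸ v.2 : (v : G) ∈ ⁅R, Y⁆))
    rwa [show w = v from Subtype.ext hwv] at hw
  obtain ⟨⟨v, hv1, hv⟩, hτ⟩ := fpf_fixed_module (r := r) (h.restrict hYi) hpow hrY ρ α
    (fun b y => by
      refine MulEquiv.ext fun v => ?_
      induction v using QuotientGroup.induction_on with
      | _ v =>
      exact congrArg (QuotientGroup.mk (s := frattini ↥R)) (Subtype.ext (by
        show b • ((y : G) * (v : G) * (y : G)⁻¹) = b • (y : G) * (b • (v : G)) * (b • (y : G))⁻¹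
        simp [smul_mul', smul_inv'])))
    (fun b hb u hu v hv => by
      obtain ⟨k, hk, rfl⟩ := lift b v hv
      refine congrArg (QuotientGroup.mk (s := frattini ↥R)) (Subtype.ext ?_)
      show (u : G) * k * (u : G)⁻¹ = k
      rw [h.ab b hb u k (congrArg Subtype.val hu) hk, mul_inv_cancel_right])
    (fun v hv => by
      induction v using QuotientGroup.induction_on with
      | _ v =>
      obtain ⟨d, hd, hvd⟩ := hRh.exists_fixed_lift_all hΦi (x := v) fun b => by
        have h1 : ((b • v : R) : ↥R ⧸ frattini ↥R) = v := hv b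
        rw [QuotientGroup.eq] at h1
        simpa using inv_mem h1
      have h1 := congrArg (QuotientGroup.mk (s := frattini ↥R)) (hRh.fixA _ hvd)
      rwa [QuotientGroup.mk_mul_of_mem v hd, QuotientGroup.mk_one] at h1)
    (fun v => by
      induction v using QuotientGroup.induction_on with
      | _ v => exact hν v)
    (a := a) (c := c) ha (fun y => Subtype.ext (hYa y.2)) hc
  obtain ⟨k, hk, hkv⟩ := lift c v hv
  refine ⟨fun hb => hv1 ?_, fun x hx hcomm hfix => ?_⟩
  · have h1 : (k : G) ∈ R ⊓ fx G c := ⟨k.2, hk⟩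
    rw [hb, mem_bot] at h1
    rw [← hkv, show k = 1 from Subtype.ext h1, QuotientGroup.mk_one]
  · have h1 : fratConj R x = 1 := hτ _ (fun y => hcomm y y.2) (orderOf x) hx
      (by rw [← map_pow, pow_orderOf_eq_one, map_one]) fun v hv => by
        obtain ⟨k, hk, rfl⟩ := lift c v hv
        rw [fratConj_mk]
        refine congrArg _ (Subtype.ext ?_)
        rw [conjHom_apply, hfix k ⟨k.2, hk⟩, mul_inv_cancel_right]
    have hall : ∀ z : normalizer (R : Set G), z ∈ zpowers x → fratConj R z = 1 := fun z hz =>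
      (zpowers_le.2 (show x ∈ (fratConj R).ker from h1) hz : z ∈ (fratConj R).ker)
    refine Solvable.le_centralizer_of_trivial_on_frattini_quotient (A := zpowers (x : G)) (K := R) ?_
      ?_ (mem_zpowers _)
    · obtain ⟨n, hn⟩ := (hR.to_subgroup (frattini ↥R)).exists_card_eq
      rw [hn, Nat.card_zpowers, orderOf_coe]
      exact Nat.Coprime.pow_right _ (((hr.out.coprime_iff_not_dvd).2 hx).symm)
    · intro z hz k hk
      obtain ⟨i, rfl⟩ := hz
      have h2 := DFunLike.congr_fun (hall (x ^ i) ⟨i, rfl⟩) ((⟨k, hk⟩⁻¹ : R) : ↥R ⧸ frattini ↥R)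
      rw [fratConj_mk, MulAut.one_apply, QuotientGroup.eq] at h2
      refine ⟨_, h2, ?_⟩
      simp only [coe_subtype, coe_mul, coe_inv, conjHom_apply, coe_zpow]
      group

end CfsgLib.RankTwoFpf
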