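import Cfsg.Agent.Lib.RankTwoFpf.Nilpotent
import Cfsg.Agent.Lib.RankTwoFpf.FrattiniModule

/-!
All Sylow subgroups centralise the centres of the other components.
-/

set_option autoImplicit false
set_option linter.style.haveILetI false
set_option linter.unusedSectionVars false

namespace CfsgLib.RankTwoFpf

open Subgroup
open scoped commutatorElement Pointwise

variable {A G : Type*} [Group A] [Group G] [MulDistribMulAction A G] [Finite G] {q : ℕ}
  (h : Min A G q)
include h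

/-- `x y x⁻¹` and `y` act equally on the Frattini quotient of `R = [R₀, Y]`. -/
theorem Min.frattini_commute {M : Subgroup G} (hM : IsMax A M) {r s : ℕ} [Fact r.Prime]
    [Fact s.Prime] (hrs : r ≠ s) {Y R : Subgroup G} (hYs : IsPGroup s Y)
    (hYM : Y ≤ M) (hR : R = ⁅Op r M, Y⁆) (hMR : M ≤ normalizer (R : Set G)) {x : G} (hx : x ∈ M)
    {y : G} (hy : y ∈ Y) :
    Commute (fratConj R ⟨x, hMR hx⟩) (fratConj R ⟨y, hMR (hYM hy)⟩) := by
  classical
  have hYO : Y ≤ normalizer (Op r M : Set G) := hYM.trans le_normalizer_op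
  have hRO : R ≤ Op r M := hR ▸ Solvable.commutator_le_of_normalizes hYO
  have hcop : (Nat.card Y).Coprime (Nat.card (Op r M)) :=
    IsPGroup.coprime_card_of_ne s r (Ne.symm hrs) _ _ hYs op_isPGroup
  haveI := (op_isPGroup (r := r) (M := M)).isNilpotent
  obtain ⟨o, ho, g, hg, hf⟩ := exists_split (r := r)
    (h.commutator_mem_fit hM.inv hM.ne_top hx (hYM hy) : ⁅x, y⁆ ∈ _)
  have hgR : g ∈ centralizer (R : Set G) :=
    fc_le (fun t _ htr => (op_comm htr).trans (Subgroup.centralizer_le hRO)) hg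
  have hCn : Op r M ⊓ centralizer (Y : Set G) ≤ normalizer ((⁅Op r M, Y⁆ : Subgroup G) : Set G) :=
    inf_le_left.trans (Solvable.le_normalizer_commutator_left _ _)
  have ho' := ho
  rw [← Solvable.commutator_sup_centralizer hYO hcop (Or.inr inferInstance)] at ho'
  obtain ⟨k, hk, c0, hc0, rfl⟩ := (Solvable.mem_sup_of_le_normalizer hCn).1 ho'
  have hkR : k ∈ R := hR ▸ hk
  have hRp : IsPGroup r R := op_isPGroup.to_le hRO
  set σ := fratConj R with hσ
  set x' : normalizer (R : Set G) := ⟨x, hMR hx⟩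
  set y' : normalizer (R : Set G) := ⟨y, hMR (hYM hy)⟩
  have hgN : g ∈ normalizer (R : Set G) := centralizer_le_normalizer _ hgR
  have hkN : k ∈ normalizer (R : Set G) := le_normalizer hkR
  have hcN : c0 ∈ normalizer (R : Set G) := hMR (op_le hc0.1)
  have hxy : x' * y' * x'⁻¹ = ⟨k, hkN⟩ * ⟨c0, hcN⟩ * ⟨g, hgN⟩ * y' := Subtype.ext (by
    show x * y * x⁻¹ = k * c0 * g * y
    rw [← hf, commutatorElement_def]; group)
  have hcy : Commute (σ ⟨c0, hcN⟩) (σ y') :=
    (show Commute (⟨c0, hcN⟩ : normalizer (R : Set G)) y' from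
      Subtype.ext (hc0.2 y hy).symm).map σ
  have hconj : σ x' * σ y' * (σ x')⁻¹ = σ ⟨c0, hcN⟩ * σ y' := by
    rw [← map_inv, ← map_mul, ← map_mul, hxy, map_mul, map_mul, map_mul, hσ,
      fratConj_eq_one_of_mem hRp ⟨k, hkN⟩ hkR, fratConj_eq_one_of_centralizes ⟨g, hgN⟩ hgR,
      one_mul, mul_one]
  obtain ⟨i, hi⟩ := hYs ⟨y, hy⟩
  obtain ⟨j, hj⟩ := op_isPGroup (r := r) (M := M) ⟨c0, hc0.1⟩
  have hy1 : σ y' ^ s ^ i = 1 := by
    rw [← map_pow, show y' ^ s ^ i = 1 from Subtype.ext (by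
      rw [coe_pow, coe_one]; exact congrArg Subtype.val hi), map_one]
  have hc1 : σ ⟨c0, hcN⟩ ^ r ^ j = 1 := by
    rw [← map_pow, show (⟨c0, hcN⟩ : normalizer (R : Set G)) ^ r ^ j = 1 from Subtype.ext (by
      rw [coe_pow, coe_one]; exact congrArg Subtype.val hj), map_one]
  have hc2 : σ ⟨c0, hcN⟩ ^ s ^ i = 1 := by
    have h1 : (σ x' * σ y' * (σ x')⁻¹) ^ s ^ i = 1 := by
      rw [conj_pow, hy1, mul_one, mul_inv_cancel]
    rwa [hconj, hcy.mul_pow, hy1, mul_one] at h1
  have hc3 : σ ⟨c0, hcN⟩ = 1 := by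
    have h1 := pow_gcd_eq_one.2 ⟨hc1, hc2⟩
    rwa [((Nat.coprime_primes (Fact.out : r.Prime) (Fact.out : s.Prime)).2 hrs).pow _ _,
      pow_one] at h1
  rw [hc3, one_mul, mul_inv_eq_iff_eq_mul] at hconj
  exact hconj

theorem Min.comm_zr_le {M H : Subgroup G} (hH : IsMax A H) {r t : ℕ}
    [hr : Fact r.Prime] [Fact t.Prime] (htr : t ≠ r) {Z : Subgroup G} (hZM : Z ≤ M)
    (hZH : Z ≤ H) (hZ : IsPGroup r Z) (hZc : ∀ x ∈ Z, ∀ y ∈ Z, x * y = y * x)
    (hOH : Op t M ≤ H) : ⁅Op t M, Z⁆ ≤ ⁅Op t H, Z⁆ := by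
  have hZO : Z ≤ normalizer (Op t M : Set G) := hZM.trans le_normalizer_op
  have hle : ⁅Op t M, Z⁆ ≤ Op t H := by
    intro x hx
    have hxO : x ∈ Op t M := Solvable.commutator_le_of_normalizes hZO hx
    have hxF : x ∈ Cfsg.fittingOf H := (commutator_le.2 fun u hu z hz =>
      h.commutator_mem_fit hH.inv hH.ne_top (hOH hu) (hZH hz)) hx
    obtain ⟨k, hk⟩ := op_isPGroup (r := t) (M := M) ⟨x, hxO⟩
    exact mem_op_of_mem_fit hxF (k := k) (congrArg Subtype.val hk)
  rw [← Solvable.commutator_commutator_eq hZO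
    (IsPGroup.coprime_card_of_ne r t (Ne.symm htr) _ _ hZ op_isPGroup)
    (Or.inl (Group.isSolvable_of_comm fun a b => Subtype.ext (hZc a a.2 b b.2)))]
  exact commutator_mono hle le_rfl

theorem Min.case_two (hC : CentralCase A G) :
    ∃ (M : Subgroup G) (a : A), IsMax A M ∧ a ≠ 1 ∧ M ⊓ fx G a ≠ ⊥ ∧
      ∀ c, c ∉ zpowers a → fx G c ≤ M := by
  classical
  haveI := h.finA
  by_cases hall : ∀ M : Subgroup G, IsMax A M → ∀ r s : ℕ, r.Prime → s.Prime → r ≠ s →
      Sy A G s ⊓ M ≤ centralizer (Op r M : Set G)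
  · exact (h.not_all_nilpotent fun M hM => h.isNilpotent_of_central hM (hall M hM)).elim
  push Not at hall
  obtain ⟨M, hM, r, s, hr, hs, hrs, hnc⟩ := hall
  haveI := Fact.mk hr
  haveI := Fact.mk hs
  set P := Sy A G s ⊓ M with hP
  have hPi : Inv A P := (h.inv_sy s).inf hM.inv
  obtain ⟨a, ha, y0, hy0, hy0a, hy0c⟩ : ∃ a : A, a ≠ 1 ∧ ∃ x ∈ P, a • x = x ∧
      x ∉ centralizer (Op r M : Set G) := by
    by_contra hno
    push Not at hno
    exact hnc (h.le_of_fixed hPi hno)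
  set Y := P ⊓ fx G a with hY
  have hYi : Inv A Y := hPi.inf (h.inv_fx a)
  have hYs : IsPGroup s Y := (h.isPGroup_sy s).to_le (inf_le_left.trans inf_le_left)
  have hYM : Y ≤ M := inf_le_left.trans inf_le_right
  have hYO : Y ≤ normalizer (Op r M : Set G) := hYM.trans le_normalizer_op
  have hcop : (Nat.card Y).Coprime (Nat.card (Op r M)) :=
    IsPGroup.coprime_card_of_ne s r (Ne.symm hrs) _ _ hYs op_isPGroup
  have hYsol : Group.IsSolvable Y :=
    Group.isSolvable_of_comm fun x y => Subtype.ext (h.ab a ha x y x.2.2 y.2.2)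
  set R := ⁅Op r M, Y⁆ with hR
  have hRO : R ≤ Op r M := Solvable.commutator_le_of_normalizes hYO
  have hRM : R ≤ M := hRO.trans op_le
  have hRp : IsPGroup r R := op_isPGroup.to_le hRO
  have hR0 : R ≠ ⊥ := fun h0 => hy0c
    (le_centralizer_iff.1 (commutator_eq_bot_iff_le_centralizer.1 h0) ⟨hy0, hy0a⟩)
  have hRY : ⁅R, Y⁆ = R := Solvable.commutator_commutator_eq hYO hcop (Or.inl hYsol)
  have hRi : Inv A R := (inv_piCoreOf hM.inv _).commutator hYi
  have hY0 : M ⊓ fx G a ≠ ⊥ := fun hb => hy0c (by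
    have h1 : y0 ∈ (⊥ : Subgroup G) := hb ▸ (⟨hy0.2, hy0a⟩ : y0 ∈ M ⊓ fx G a)
    rw [mem_bot] at h1
    rw [h1]
    exact one_mem _)
  have hMR : M ≤ normalizer (R : Set G) :=
    h.normal_commutator (r := s) hM.inv hM.ne_top hYi inf_le_left le_normalizer_op
      (op_comm (Ne.symm hrs)) fun t ht => by
        by_cases htr : t = r
        · subst htr; exact Solvable.le_normalizer_commutator_left _ _
        · exact ((op_comm htr).trans (Subgroup.centralizer_le hRO)).trans
            (centralizer_le_normalizer _)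
  -- `R` is not abelian
  set R' := ⁅R, R⁆ with hR'
  have hR'0 : R' ≠ ⊥ := by
    intro h0
    have hRc : ∀ u ∈ R, ∀ v ∈ R, u * v = v * u := fun u hu v hv =>
      ((commutator_eq_bot_iff_le_centralizer.1 h0) hv u hu)
    haveI : IsMulCommutative R := ⟨⟨fun u v => Subtype.ext (hRc u u.2 v v.2)⟩⟩
    set C := Op r M ⊓ centralizer (Y : Set G) with hC'
    obtain ⟨z, hz, hz1, hzC⟩ := KSteps.exists_fixed_of_normalizes (p := r) C R
      (op_isPGroup.to_le inf_le_left) hRp hR0 (fun g hg x hx =>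
        ((mem_normalizer_iff.1 (Solvable.le_normalizer_commutator_left (Op r M) Y hg.1)) x).1 hx)
    have hzle : Op r M ≤ centralizer ({z} : Set G) := by
      conv_lhs => rw [← Solvable.commutator_sup_centralizer hYO hcop (Or.inl hYsol)]
      exact sup_le (fun u hu => mem_centralizer_singleton_iff.2 (hRc u hu z hz))
        fun u hu => mem_centralizer_singleton_iff.2 (hzC u hu)
    have hzZ : z ∈ Z0 r M := ⟨hRO hz, fun u hu => mem_centralizer_singleton_iff.1 (hzle hu)⟩
    have hzY : z ∈ centralizer (Y : Set G) := fun y hy => ((hC M hM r s hr hs hrs) hy.1 z hzZ).symm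
    have hmem : z ∈ (R ⊓ centralizer (Y : Set G)) ⊓ ⁅R, Y⁆ := ⟨⟨hz, hzY⟩, by rw [hRY]; exact hz⟩
    rw [Solvable.centralizer_inf_commutator_eq_bot (hYM.trans hMR)
      (hcop.coprime_dvd_right (card_dvd_of_le hRO)), mem_bot] at hmem
    exact hz1 hmem
  have hR'R : R' ≤ R := commutator_le_self R
  have hR'M : M ≤ normalizer (R' : Set G) := fun m hm => by
    rw [mem_normalizer_iff_map_conj_eq, hR', map_commutator,
      mem_normalizer_iff_map_conj_eq.1 (hMR hm)]
  have hCR' : centralizer (R' : Set G) ≤ M :=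
    h.centralizer_le hM (hRi.commutator hRi) (hR'R.trans hRM) hR'0 hR'M
  have hOr0 : Op r M ≠ ⊥ := fun hb => hR0 (eq_bot_iff.2 (hb ▸ hRO))
  have hRS : R ≤ Sy A G r := hRO.trans (le_sy op_isPGroup (inv_piCoreOf hM.inv _))
  refine ⟨M, a, hM, ha, hY0, fun c hc => ?_⟩
  have hc1 := h.ne_one_of_not_mem hc
  obtain ⟨hRc0, hτ⟩ := h.toHyp.frattini_fixed hRp hR0 hRi hYi (hYM.trans hMR)
    (fun hd => by
      obtain ⟨n, hn⟩ := hYs.exists_card_eq
      rw [hn] at hd
      exact hrs ((Nat.prime_dvd_prime_iff_eq hr hs).1 (hr.dvd_of_dvd_pow hd)))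
    hRY ha inf_le_right hc
  obtain ⟨H, hH, hXH, hfH, -⟩ :=
    h.exists_max_centralizer (hRi.inf (h.inv_fx c)) hRc0 hc1 inf_le_right
  have hOH : ∀ t : ℕ, t.Prime → t ≠ r → Op t M ≤ H := fun t _ htr =>
    ((op_comm htr).trans (Subgroup.centralizer_le (inf_le_left.trans hRO))).trans hXH
  have hZcH : Zc A r M ≤ H :=
    ((le_centralizer_iff.1 (h.le_centralizer_zc hC hM)).trans
      (Subgroup.centralizer_le (inf_le_left.trans hRM))).trans hXH
  set Zr := Sy A G r ⊓ centralizer (Sy A G r : Set G) with hZr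
  have hZri : Inv A Zr := (h.inv_sy r).inf (h.inv_sy r).centralizer
  have hZrp : IsPGroup r Zr := (h.isPGroup_sy r).to_le inf_le_left
  have hZrc : ∀ x ∈ Zr, ∀ y ∈ Zr, x * y = y * x := fun x hx y hy => hy.2 x hx.1
  have hZrH : Zr ≤ H := inf_le_right.trans
    ((Subgroup.centralizer_le (inf_le_left.trans hRS)).trans hXH)
  -- `R ≤ H`
  have hRH : R ≤ H := by
    by_cases hother : ∀ t : ℕ, t.Prime → t ≠ r → Op t H = ⊥
    · have hH0 : H ≠ ⊥ := fun hb => hRc0 (eq_bot_iff.2 (hb ▸ inf_le_right.trans hfH))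
      obtain ⟨t, ht, ht0⟩ := h.exists_op_ne_bot hH hH0
      have htr : t = r := by by_contra htr; exact ht0 (hother t ht htr)
      subst htr
      exact hRS.trans (h.sy_le hH ht0 hother)
    push Not at hother
    obtain ⟨u, hu, hur, hu0⟩ := hother
    haveI := Fact.mk hu
    set X := Zc A u H with hX
    have hXH' : X ≤ H := inf_le_left.trans op_le
    have hXM : X ≤ M :=
      ((le_centralizer_iff.1 (h.le_centralizer_zc hC hH)).trans
        (Subgroup.centralizer_le hZcH)).trans (h.centralizer_zc_le hC hM hOr0)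
    have hXR : X ≤ centralizer (R : Set G) := by
      intro x hx
      refine hτ ⟨x, hMR (hXM hx)⟩ ?_ (fun y hy => ?_) fun k hk => ?_
      · rw [← orderOf_coe]
        obtain ⟨n, hn⟩ := (op_isPGroup (r := u) (M := H)).exists_card_eq
        exact fun hd => hur ((Nat.prime_dvd_prime_iff_eq hr hu).1 (hr.dvd_of_dvd_pow
          (hd.trans (hn ▸ OddOrder.orderOf_dvd_card_of_mem hx.1)))).symm
      · exact h.frattini_commute hM hrs hYs hYM hR hMR (hXM hx) hy
      · exact (le_centralizer_iff.1 (h.le_centralizer_zc hC hH) hx k (hfH hk.2)).symm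
    exact (le_centralizer_iff.1 hXR).trans (h.centralizer_zc_le hC hH hu0)
  have hR'H : R' ≤ Op r H := fun x hx => by
    have hxF : x ∈ Cfsg.fittingOf H := (commutator_le.2 fun u hu v hv =>
      h.commutator_mem_fit hH.inv hH.ne_top (hRH hu) (hRH hv)) hx
    obtain ⟨k, hk⟩ := hRp ⟨x, hR'R hx⟩
    exact mem_op_of_mem_fit hxF (k := k) (congrArg Subtype.val hk)
  have hOM : ∀ t : ℕ, t.Prime → t ≠ r → Op t H ≤ M := fun t _ htr =>
    ((op_comm htr).trans (Subgroup.centralizer_le hR'H)).trans hCR'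
  have hZrM : Zr ≤ M :=
    inf_le_right.trans ((Subgroup.centralizer_le (hR'R.trans hRS)).trans hCR')
  have hnorm : ∀ K : Subgroup G, IsMax A K → Zr ≤ K → ∀ t : ℕ, t.Prime → t ≠ r →
      K ≤ normalizer ((⁅Op t K, Zr⁆ : Subgroup G) : Set G) := fun K hK hZK t ht htr => by
    haveI := Fact.mk ht
    refine h.normal_commutator (r := r) hK.inv hK.ne_top hZri (le_inf inf_le_left hZK)
      le_normalizer_op (op_comm (Ne.symm htr)) fun v hv => ?_
    by_cases hvt : v = t
    · subst hvt; exact Solvable.le_normalizer_commutator_left _ _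
    · exact ((op_comm hvt).trans (Subgroup.centralizer_le (Solvable.commutator_le_of_normalizes
        (hZK.trans le_normalizer_op)))).trans (centralizer_le_normalizer _)
  by_cases hT : ∃ t : ℕ, t.Prime ∧ t ≠ r ∧ ⁅Op t M, Zr⁆ ≠ ⊥
  · obtain ⟨t, ht, htr, hT0⟩ := hT
    haveI := Fact.mk ht
    have heq : ⁅Op t M, Zr⁆ = ⁅Op t H, Zr⁆ :=
      le_antisymm (h.comm_zr_le hH htr hZrM hZrH hZrp hZrc (hOH t ht htr))
        (h.comm_zr_le hM htr hZrH hZrM hZrp hZrc (hOM t ht htr))
    have hTi : Inv A ⁅Op t M, Zr⁆ := (inv_piCoreOf hM.inv _).commutator hZri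
    have h1 := h.normalizer_eq hM hTi
      ((Solvable.commutator_le_of_normalizes (hZrM.trans le_normalizer_op)).trans op_le) hT0
      (hnorm M hM hZrM t ht htr)
    have h2 := h.normalizer_eq hH hTi
      (heq ▸ (Solvable.commutator_le_of_normalizes (hZrH.trans le_normalizer_op)).trans op_le) hT0
      (heq ▸ hnorm H hH hZrH t ht htr)
    rw [← h1, h2]
    exact hfH
  push Not at hT
  have hS0 : Sy A G r ≠ ⊥ := fun hb =>
    hOr0 (eq_bot_iff.2 (hb ▸ le_sy op_isPGroup (inv_piCoreOf hM.inv _)))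
  have hZr0 : Zr ≠ ⊥ := by
    obtain ⟨b, hb, hb1, hbc⟩ := KSteps.exists_fixed_of_normalizes (p := r) (Sy A G r) (Sy A G r)
      (h.isPGroup_sy r) (h.isPGroup_sy r) hS0
      (fun g hg x hx => mul_mem (mul_mem hg hx) (inv_mem hg))
    exact fun h0 => hb1 (mem_bot.1 (h0 ▸ (⟨hb, hbc⟩ : b ∈ Zr)))
  have hcentral : ∀ K : Subgroup G, IsMax A K → Zr ≤ K →
      (∀ t : ℕ, t.Prime → t ≠ r → ⁅Op t K, Zr⁆ = ⊥) → K = centralizer (Zr : Set G) := by
    intro K hK hZK hT
    have hW : Zr ⊔ Op r K ≤ Op r K :=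
      h.le_op_of_centralized hK.inv hK.ne_top (sup_le hZK op_le)
        ((h.isPGroup_sy r).to_le (sup_le inf_le_left (le_sy op_isPGroup (inv_piCoreOf hK.inv _))))
        le_sup_right fun t ht htr => by
          haveI := Fact.mk ht
          rw [le_centralizer_iff]
          exact sup_le (le_centralizer_iff.1 (commutator_eq_bot_iff_le_centralizer.1 (hT t ht htr)))
            (op_comm (Ne.symm htr))
    have hZ0 : Zr ≤ Z0 r K := le_inf (le_sup_left.trans hW)
      (inf_le_right.trans (Subgroup.centralizer_le (le_sy op_isPGroup (inv_piCoreOf hK.inv _))))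
    have hle : K ≤ centralizer (Zr : Set G) := h.toHyp.le_of_sylows hK.inv fun p hp => by
      by_cases hpr : p = r
      · subst hpr
        exact inf_le_left.trans (le_centralizer_iff.1 inf_le_right)
      · exact (hC K hK r p hr hp (Ne.symm hpr)).trans (Subgroup.centralizer_le hZ0)
    exact (hK.max _ hZri.centralizer (h.centralizer_ne_top hZr0) hle).symm
  have hTH : ∀ t : ℕ, t.Prime → t ≠ r → ⁅Op t H, Zr⁆ = ⊥ := fun t ht htr => by
    haveI := Fact.mk ht
    rw [eq_bot_iff, ← hT t ht htr]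
    exact h.comm_zr_le hM htr hZrH hZrM hZrp hZrc (hOM t ht htr)
  rw [hcentral M hM hZrM hT, ← hcentral H hH hZrH hTH]
  exact hfH

end CfsgLib.RankTwoFpf
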