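import Cfsg.Agent.Lib.RankTwoFpf.Modules
import Cfsg.Agent.Lib.Solvable.Core

/-!
In a solvable group with such an action the derived group is nilpotent.
-/

set_option autoImplicit false
set_option linter.style.haveILetI false

namespace CfsgLib.RankTwoFpf

open Subgroup
open scoped commutatorElement

variable {A G : Type*} [Group A] [Group G] [MulDistribMulAction A G]

/-- Conjugation of a normalised subgroup. -/
def conjHom (Y K : Subgroup G) (hY : Y ≤ normalizer (K : Set G)) : Y →* MulAut K where
  toFun y :=
    { toFun := fun v => ⟨y * v * (y : G)⁻¹, (mem_normalizer_iff.1 (hY y.2) v).1 v.2⟩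
      invFun := fun v => ⟨(y : G)⁻¹ * v * y, (mem_normalizer_iff''.1 (hY y.2) v).1 v.2⟩
      left_inv := fun v => Subtype.ext (by simp [mul_assoc])
      right_inv := fun v => Subtype.ext (by simp [mul_assoc])
      map_mul' := fun v w => Subtype.ext (by simp [mul_assoc]) }
  map_one' := MulEquiv.ext fun v => Subtype.ext (by simp)
  map_mul' x y := MulEquiv.ext fun v => Subtype.ext (by simp [mul_assoc])

theorem conjHom_apply {Y K : Subgroup G} (hY : Y ≤ normalizer (K : Set G)) (y : Y) (v : K) :
    ((conjHom Y K hY y v : K) : G) = y * v * (y : G)⁻¹ := rfl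

/-- The action on an invariant subgroup as automorphisms. -/
def actHom (K : Subgroup G) (hK : Inv A K) : A →* MulAut K :=
  @MulDistribMulAction.toMulAut A K _ _ (subAct K hK)

theorem actHom_apply {K : Subgroup G} (hK : Inv A K) (a : A) (v : K) :
    ((actHom K hK a v : K) : G) = a • (v : G) := rfl

theorem conjHom_compat {Y K : Subgroup G} (hY : Y ≤ normalizer (K : Set G)) (hYi : Inv A Y)
    (hK : Inv A K) (a : A) (y : Y) :
    letI := subAct Y hYi
    actHom K hK a * conjHom Y K hY y = conjHom Y K hY (a • y) * actHom K hK a :=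
  MulEquiv.ext fun v => Subtype.ext (by
    show a • ((y : G) * v * (y : G)⁻¹) = a • (y : G) * (a • (v : G)) * (a • (y : G))⁻¹
    simp [smul_mul', smul_inv'])

universe u

variable [Finite A] {q : ℕ}

theorem commutator_nilpotent_aux (n : ℕ) : ∀ (K : Type u) [Group K] [Finite K]
    [MulDistribMulAction A K], Nat.card K = n → Hyp A K q → Group.IsSolvable K →
      Group.IsNilpotent (commutator K) := by
  induction n using Nat.strong_induction_on with
  | _ n ih =>
  intro K _ _ _ hcard h hsol
  classical
  cases subsingleton_or_nontrivial K with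
  | inl hsub => exact inferInstance
  | inr hnt =>
  -- a minimal invariant normal subgroup
  obtain ⟨N, hN⟩ := Set.Finite.exists_minimal
    (Set.toFinite {N : Subgroup K | N ≠ ⊥ ∧ N.Normal ∧ Inv A N})
    ⟨⊤, top_ne_bot, inferInstance, fun _ _ _ => mem_top _⟩
  obtain ⟨hN0, hNn, hNi⟩ := hN.prop
  haveI := hNn
  have hmin : ∀ L : Subgroup K, L.Normal → Inv A L → L ≤ N → L ≠ ⊥ → L = N :=
    fun L hL hLi hLN hL0 => le_antisymm hLN (hN.2 ⟨hL0, hL, hLi⟩ hLN)
  -- it is abelian
  have hab : ∀ x ∈ N, ∀ y ∈ N, x * y = y * x := by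
    haveI : Nontrivial N := (nontrivial_iff_ne_bot _).2 hN0
    have hne : (commutator N).map N.subtype ≠ N := by
      intro he
      have h1 : commutator N = ⊤ := by
        refine map_injective N.subtype_injective ?_
        rw [he, ← MonoidHom.range_eq_map, range_subtype]
      have h2 := Group.IsSolvable.commutator_lt_top_of_nontrivial N
      rw [h1] at h2
      exact lt_irrefl _ h2
    have hbot : (commutator N).map N.subtype = ⊥ := by
      rw [map_subtype_commutator]
      rw [map_subtype_commutator] at hne
      by_contra h0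
      refine hne (hmin _ inferInstance (fun a x hx => ?_) (commutator_le_self N) h0)
      have hle := map_commutator N N (MulDistribMulAction.toMulAut A K a).toMonoidHom
      have h3 : (MulDistribMulAction.toMulAut A K a).toMonoidHom x ∈
          (⁅N, N⁆ : Subgroup K).map (MulDistribMulAction.toMulAut A K a).toMonoidHom :=
        mem_map_of_mem _ hx
      rw [hle, inv_map_eq hNi] at h3
      exact h3
    intro x hx y hy
    have h1 : ⁅x, y⁆ ∈ (⊥ : Subgroup K) := by
      rw [← hbot, map_subtype_commutator]
      exact commutator_mem_commutator hx hy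
    exact commutatorElement_eq_one_iff_mul_comm.1 (mem_bot.1 h1)
  -- of prime exponent
  obtain ⟨r, hr, hrd⟩ := Nat.exists_prime_and_dvd (n := Nat.card N)
    (fun h1 => hN0 (card_eq_one.1 h1))
  haveI : Fact r.Prime := ⟨hr⟩
  have hpow : ∀ x ∈ N, x ^ r = 1 := by
    let L : Subgroup K :=
      { carrier := {x | x ∈ N ∧ x ^ r = 1}
        one_mem' := ⟨N.one_mem, one_pow _⟩
        mul_mem' := fun {a b} ha hb => ⟨N.mul_mem ha.1 hb.1, by
          rw [(show Commute a b from hab a ha.1 b hb.1).mul_pow, ha.2, hb.2, one_mul]⟩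
        inv_mem' := fun {a} ha => ⟨N.inv_mem ha.1, by rw [inv_pow, ha.2, inv_one]⟩ }
    have hL : L = N := by
      refine hmin L ⟨fun y hy g => ⟨Normal.conj_mem hNn y hy.1 g, by
        rw [conj_pow, hy.2, mul_one, mul_inv_cancel]⟩⟩
        (fun a y hy => ⟨hNi a y hy.1, by rw [← smul_pow', hy.2, smul_one]⟩) (fun y hy => hy.1) ?_
      intro hbot
      obtain ⟨x, hx⟩ := exists_prime_orderOf_dvd_card' (G := N) r hrd
      have hxL : (x : K) ∈ L := ⟨x.2, by rw [← coe_pow, ← hx, pow_orderOf_eq_one, coe_one]⟩
      rw [hbot, mem_bot] at hxL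
      rw [← orderOf_coe, hxL, orderOf_one] at hx
      exact hr.one_lt.ne hx
    intro x hx
    rw [← hL] at hx
    exact hx.2
  letI : CommGroup N :=
    { (inferInstance : Group N) with mul_comm := fun a b => Subtype.ext (hab a a.2 b b.2) }
  have hnorm : (⊤ : Subgroup K) ≤ normalizer (N : Set K) := by rw [normalizer_eq_top]
  let ρ : K →* MulAut N := (conjHom ⊤ N hnorm).comp (topEquiv (G := K)).symm.toMonoidHom
  have hρ : ∀ x : K, ∀ v : N, ((ρ x v : N) : K) = x * v * x⁻¹ := fun _ _ => rfl
  let α : A →* MulAut N := actHom N hNi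
  have hcompat : ∀ (a : A) (g : K), α a * ρ g = ρ (a • g) * α a := fun a g =>
    MulEquiv.ext fun v => Subtype.ext (by
      show a • (g * (v : K) * g⁻¹) = a • g * (a • (v : K)) * (a • g)⁻¹
      simp [smul_mul', smul_inv'])
  have htriv : ∀ x ∈ commutator K, ρ x = 1 := by
    refine commutator_acts_trivially (r := r) h (fun v => Subtype.ext (hpow v v.2)) ρ α hcompat
      (fun a ha u hu v hv => Subtype.ext ?_) (fun v hv => Subtype.ext ?_) ?_
    · have h1 : a • (v : K) = v := congrArg Subtype.val hv
      rw [hρ, h.ab a ha u v hu h1, mul_inv_cancel_right]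
    · exact h.fixA v fun a => congrArg Subtype.val (hv a)
    · intro E hE hEi hEp
      haveI := hE
      have hP : IsPGroup r (E.map ρ) := by
        rintro ⟨_, x, hx, rfl⟩
        obtain ⟨j, hj⟩ := hEp x hx
        exact ⟨j, Subtype.ext (by rw [coe_pow, ← map_pow, hj]; rfl)⟩
      obtain ⟨v, hv, hv1⟩ := hP.exists_fixed_point_of_prime_dvd_card_of_fixed_point N hrd
        (a := 1) (fun g => smul_one g)
      let N0 : Subgroup K := N ⊓ centralizer (E : Set K)
      have hN0' : N0 = N := by
        refine hmin N0 inferInstance (fun a x hx => ⟨hNi a x hx.1, fun e he => ?_⟩) inf_le_left ?_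
        · have h1 := congrArg (a • ·) (hx.2 (a⁻¹ • e) (hEi a⁻¹ e he))
          simpa [smul_mul'] using h1
        · intro hbot
          have hvN : (v : K) ∈ N0 := ⟨v.2, fun e he => by
            have h1 : ρ e v = v := hv ⟨ρ e, mem_map_of_mem ρ he⟩
            have h2 : e * (v : K) * e⁻¹ = v := congrArg Subtype.val h1
            rwa [mul_inv_eq_iff_eq_mul] at h2⟩
          rw [hbot, mem_bot] at hvN
          exact hv1.symm (Subtype.ext hvN)
      intro x hx
      refine MulEquiv.ext fun w => Subtype.ext ?_
      have hw : (w : K) ∈ N0 := by rw [hN0']; exact w.2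
      rw [hρ, show x * (w : K) = w * x from hw.2 x hx, mul_inv_cancel_right]
      rfl
  -- the quotient
  letI := quotAct N hNi
  have hlt : Nat.card (K ⧸ N) < n := by
    rw [← hcard, card_eq_card_quotient_mul_card_subgroup N]
    refine lt_mul_of_one_lt_right Nat.card_pos ?_
    exact Finite.one_lt_card_iff_nontrivial.2 ((nontrivial_iff_ne_bot _).2 hN0)
  have hIH := ih _ hlt (K ⧸ N) rfl (h.quot N hNi) inferInstance
  let f : commutator K →* commutator (K ⧸ N) :=
    ((QuotientGroup.mk' N).comp (_root_.commutator K).subtype).codRestrict _ fun x => by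
      have h1 : (commutator K).map (QuotientGroup.mk' N) ≤ commutator (K ⧸ N) := by
        rw [_root_.commutator_def, _root_.commutator_def, map_commutator]
        exact commutator_mono le_top le_top
      exact h1 (mem_map_of_mem _ x.2)
  haveI := hIH
  refine Subgroup.isNilpotent_of_ker_le_center f fun x hx => mem_center_iff.2 fun y => ?_
  have hxN : (x : K) ∈ N := (QuotientGroup.eq_one_iff _).1 (congrArg Subtype.val hx)
  have h1 : ((ρ y ⟨x, hxN⟩ : N) : K) = x := by rw [htriv y y.2]; rfl
  rw [hρ, mul_inv_eq_iff_eq_mul] at h1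
  exact Subtype.ext h1

theorem Hyp.commutator_le_fitting {K : Type u} [Group K] [Finite K] [MulDistribMulAction A K]
    (h : Hyp A K q) (hsol : Group.IsSolvable K) : commutator K ≤ Cfsg.fittingSubgroup K :=
  Solvable.le_fittingSubgroup inferInstance (commutator_nilpotent_aux _ K rfl h hsol)

end CfsgLib.RankTwoFpf
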