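import Cfsg.Agent.Lib.RankTwoFpf.Weights
import Mathlib.Algebra.CharP.Basic
import Mathlib.GroupTheory.Solvable

/-!
Consequences of the weight lemmas over an algebraically closed field.
-/

set_option autoImplicit false
set_option linter.unusedSectionVars false

namespace CfsgLib.RankTwoFpf

open OddOrder.FixLine
open scoped commutatorElement

variable {A G : Type*} [Group A] [Group G] [MulDistribMulAction A G]
variable {k E : Type*} [Field k] [AddCommGroup E] [Module k E] [IsAlgClosed k]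
  [FiniteDimensional k E]
variable [Fintype A] [Finite G] {q : ℕ} {ρ : Representation k G E} {α : Representation k A E}

theorem exists_wt_of_invariant {N : Subgroup G}
    (hab : ∀ a ∈ N, ∀ b ∈ N, Commute (ρ a) (ρ b)) {U : Submodule k E} (hU : U ≠ ⊥)
    (hinv : ∀ s ∈ N, ∀ u ∈ U, ρ s u ∈ U) :
    ∃ χ : G → k, IsWt ρ N χ ∧ ∃ u ∈ U, u ≠ 0 ∧ u ∈ wt ρ N χ := by
  classical
  obtain ⟨u, hu, hu0, hc⟩ := exists_common_eigen (ρ := ρ) N hab _ U le_rfl hU hinv
  choose! c hc using hc
  have hw : u ∈ wt ρ N (fun t => if t ∈ N then c t else 0) :=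
    mem_wt.2 fun t ht => by rw [if_pos ht]; exact hc t ht
  exact ⟨_, ⟨fun t ht => if_neg ht, (Submodule.ne_bot_iff _).2 ⟨u, hw, hu0⟩⟩, u, hu, hu0, hw⟩

theorem derivedSeries_inv (n : ℕ) : Inv A (derivedSeries G n) := fun a x hx =>
  map_derivedSeries_le_derivedSeries (MulDistribMulAction.toMulAut A G a).toMonoidHom n
    ⟨x, hx, rfl⟩

/-- If no nontrivial normal invariant subgroup acts as an `r`-group, a solvable group acts with
trivial derived group. -/
theorem Ctx.commutator_trivial (hc : Ctx q ρ α) (r : ℕ) [CharP k r] (hr : r.Prime)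
    [Group.IsSolvable G]
    (hcore : ∀ N : Subgroup G, N.Normal → Inv A N → (∀ x ∈ N, ∃ j, ρ (x ^ r ^ j) = 1) →
      ∀ x ∈ N, ρ x = 1) :
    ∀ x ∈ commutator G, ρ x = 1 := by
  classical
  have step : ∀ n, 1 ≤ n → (∀ x ∈ derivedSeries G (n + 1), ρ x = 1) →
      ∀ x ∈ derivedSeries G n, ρ x = 1 := by
    intro n hn htriv x hx
    set N := derivedSeries G n with hN
    have hNinv : Inv A N := derivedSeries_inv n
    haveI : N.Normal := derivedSeries_normal G n
    have hab : ∀ a ∈ N, ∀ b ∈ N, Commute (ρ a) (ρ b) := by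
      intro a ha b hb
      have h1 : ρ ⁅a, b⁆ = 1 := htriv _ (Subgroup.commutator_mem_commutator ha hb)
      show ρ a * ρ b = ρ b * ρ a
      rw [← map_mul, ← map_mul, show a * b = ⁅a, b⁆ * (b * a) by rw [commutatorElement_def]; group,
        map_mul, h1, one_mul]
    let E0 : Subgroup G :=
      { carrier := {y | y ∈ N ∧ ∃ j, ρ (y ^ r ^ j) = 1}
        one_mem' := ⟨N.one_mem, 0, by simp⟩
        mul_mem' := fun {a b} ha hb => by
          obtain ⟨haN, i, hi⟩ := ha
          obtain ⟨hbN, j, hj⟩ := hb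
          refine ⟨N.mul_mem haN hbN, i + j, ?_⟩
          rw [map_pow, map_mul, (hab a haN b hbN).mul_pow, ← map_pow, ← map_pow,
            show r ^ (i + j) = r ^ i * r ^ j by rw [pow_add], pow_mul a, map_pow ρ (a ^ r ^ i), hi,
            one_pow, mul_comm (r ^ i), pow_mul b, map_pow ρ (b ^ r ^ j), hj, one_pow, one_mul]
        inv_mem' := fun {a} ha => by
          obtain ⟨haN, i, hi⟩ := ha
          refine ⟨N.inv_mem haN, i, ?_⟩
          rw [inv_pow]
          exact left_inv_eq_right_inv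
            (show ρ (a ^ r ^ i)⁻¹ * ρ (a ^ r ^ i) = 1 by rw [← map_mul, inv_mul_cancel, map_one])
            (show ρ (a ^ r ^ i) * 1 = 1 by rw [hi, one_mul]) }
    have hE0n : E0.Normal := ⟨fun y hy g => by
      obtain ⟨hyN, j, hj⟩ := hy
      refine ⟨Subgroup.Normal.conj_mem ‹N.Normal› y hyN g, j, ?_⟩
      rw [conj_pow, map_mul, map_mul, hj, mul_one, ← map_mul, mul_inv_cancel, map_one]⟩
    have hE0i : Inv A E0 := fun a y hy => by
      obtain ⟨hyN, j, hj⟩ := hy
      refine ⟨hNinv a y hyN, j, ?_⟩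
      have h1 := hc.compat a (y ^ r ^ j)
      rw [hj, mul_one, smul_pow'] at h1
      have h2 : α a * α a⁻¹ = 1 := by rw [← map_mul, mul_inv_cancel, map_one]
      calc ρ ((a • y) ^ r ^ j) = ρ ((a • y) ^ r ^ j) * (α a * α a⁻¹) := by rw [h2, mul_one]
        _ = α a * α a⁻¹ := by rw [← mul_assoc, ← h1]
        _ = 1 := h2
    have hE0 : ∀ y ∈ E0, ρ y = 1 := hcore E0 hE0n hE0i fun y hy => hy.2
    by_contra hx1
    set x' := x ^ r ^ (orderOf x).factorization r with hx'
    have hx'N : x' ∈ N := pow_mem hx _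
    have hx'1 : ρ x' ≠ 1 := fun h1 => hx1 (hE0 x ⟨hx, _, h1⟩)
    have hord : orderOf x' = orderOf x / r ^ (orderOf x).factorization r := by
      rw [hx', orderOf_pow_of_dvd (pow_ne_zero _ hr.ne_zero) (Nat.ordProj_dvd _ r)]
    have hcast : ((orderOf x' : ℕ) : k) ≠ 0 := by
      rw [Ne, CharP.cast_eq_zero_iff k r, hord]
      exact Nat.not_dvd_ordCompl hr (orderOf_pos x).ne'
    obtain ⟨μ, hμ, v, hv0, hv⟩ := exists_eigen_ne_one (ρ x') hcast
      (by rw [← map_pow, pow_orderOf_eq_one, map_one]) hx'1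
    obtain ⟨χ, hχ, u, hu, hu0, huw⟩ := exists_wt_of_invariant (ρ := ρ) hab
      (U := Module.End.eigenspace (ρ x') μ)
      ((Submodule.ne_bot_iff _).2 ⟨v, Module.End.mem_eigenspace_iff.2 hv, hv0⟩)
      (fun s hs w hw => Module.End.mem_eigenspace_iff.2 (by
        rw [← Module.End.mul_apply, (hab x' hx'N s hs).eq, Module.End.mul_apply,
          Module.End.mem_eigenspace_iff.1 hw, map_smul]))
    have hχx : χ x' = μ := by
      have h1 := mem_wt.1 huw x' hx'N
      rw [Module.End.mem_eigenspace_iff.1 hu] at h1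
      exact (smul_left_injective k hu0 h1).symm
    have hcomm : x' ∈ commutator G := by
      rw [← derivedSeries_one]
      exact derivedSeries_antitone G hn hx'N
    have h1 := hc.commutator_apply hNinv hχ ⟨x', hx'N, hχx ▸ hμ⟩ hcomm huw
    rw [Module.End.mem_eigenspace_iff.1 hu] at h1
    exact hμ (smul_left_injective k hu0 (by simpa using h1))
  obtain ⟨n0, hn0⟩ := (inferInstance : Group.IsSolvable G).solvable
  have main : ∀ j, j ≤ n0 → ∀ x ∈ derivedSeries G (max (n0 - j) 1), ρ x = 1 := by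
    intro j
    induction j with
    | zero =>
      intro _ x hx
      have : x ∈ derivedSeries G n0 :=
        derivedSeries_antitone G (by simp) hx
      rw [hn0, Subgroup.mem_bot] at this
      rw [this, map_one]
    | succ j ih =>
      intro hj x hx
      rcases Nat.lt_or_ge 1 (n0 - j) with h1 | h1
      · refine step _ (le_max_right _ _) (fun y hy => ih (by omega) y ?_) x hx
        have : max (n0 - (j + 1)) 1 + 1 = max (n0 - j) 1 := by omega
        rwa [this] at hy
      · have : max (n0 - (j + 1)) 1 = max (n0 - j) 1 := by omega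
        rw [this] at hx
        exact ih (by omega) x hx
  intro x hx
  refine main n0 le_rfl x ?_
  rwa [Nat.sub_self, Nat.max_eq_right (Nat.zero_le 1), derivedSeries_one]

section Abelian

variable [Fintype G]

theorem natCast_ne_zero_of_dvd {m n : ℕ} (hd : m ∣ n) (hn : (n : k) ≠ 0) : (m : k) ≠ 0 := by
  obtain ⟨c, rfl⟩ := hd
  rw [Nat.cast_mul] at hn
  exact left_ne_zero_of_mul hn

/-- An abelian group without fixed vectors has only nontrivial weights. -/
theorem exists_ne_one_of_isWt (hsum : ∑ g : G, ρ g = 0) (hcard : (Nat.card G : k) ≠ 0)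
    {χ : G → k} (hχ : IsWt ρ (⊤ : Subgroup G) χ) : ∃ e ∈ (⊤ : Subgroup G), χ e ≠ 1 := by
  by_contra hno
  push Not at hno
  obtain ⟨v, hv, hv0⟩ := (Submodule.ne_bot_iff _).1 hχ.2
  have h1 : (∑ g : G, ρ g) v = (Nat.card G : k) • v := by
    rw [LinearMap.sum_apply, Finset.sum_congr rfl fun g _ => by
      rw [mem_wt.1 hv g (Subgroup.mem_top g), hno g (Subgroup.mem_top g), one_smul]]
    rw [Finset.sum_const, Finset.card_univ, Nat.card_eq_fintype_card, Nat.cast_smul_eq_nsmul]
  rw [hsum, LinearMap.zero_apply] at h1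
  exact hv0 ((smul_eq_zero.1 h1.symm).resolve_left hcard)

/-- An abelian group inside the fixed points of `a` without fixed vectors. -/
theorem Ctx.fpf_fixed (hc : Ctx q ρ α) [Nontrivial E] {a c : A} (ha : a ≠ 1)
    (hfixa : ∀ g : G, a • g = g) (hca : c ∉ Subgroup.zpowers a)
    (hsum : ∑ g : G, ρ g = 0) (hcard : (Nat.card G : k) ≠ 0) :
    powSum q α c ≠ 0 ∧ ∀ τ : Module.End k E, (∀ g, Commute τ (ρ g)) →
      ∀ n : ℕ, (n : k) ≠ 0 → τ ^ n = 1 → τ * powSum q α c = powSum q α c → τ = 1 := by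
  classical
  have hh := hc.hyp
  have htop : Inv A (⊤ : Subgroup G) := fun _ _ _ => Subgroup.mem_top _
  have hab : ∀ g ∈ (⊤ : Subgroup G), ∀ g' ∈ (⊤ : Subgroup G), Commute (ρ g) (ρ g') :=
    fun g _ g' _ => (show Commute g g' from hh.ab a ha g g' (hfixa g) (hfixa g')).map ρ
  have hstab : ∀ χ, IsWt ρ (⊤ : Subgroup G) χ → ∃ m, twStab A χ = Subgroup.zpowers m ∧
      c ∉ Subgroup.zpowers m := by
    intro χ hχ
    have hne := exists_ne_one_of_isWt hsum hcard hχ
    obtain ⟨m, hm1, hm⟩ := hc.exists_stab htop hχ hne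
    refine ⟨m, hm, fun hcm => hca ?_⟩
    have ham : a ∈ Subgroup.zpowers m := by
      by_contra ham
      obtain ⟨e, he, he1⟩ := hne
      exact he1 (hc.fix_eq_one htop hm hχ ham he (hfixa e))
    rwa [hh.zpowers_eq ha ham]
  have hsep : ∀ χ, IsWt ρ (⊤ : Subgroup G) χ → ∀ v ∈ wt ρ (⊤ : Subgroup G) χ,
      powSum q α c v = 0 → v = 0 := by
    intro χ hχ v hv h0
    obtain ⟨m, hm, hcm⟩ := hstab χ hχ
    have := wt_sum_eq_zero (ρ := ρ) (S := ⊤) (Finset.range q) (fun i => tw (c ^ i) χ)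
      (fun i => α (c ^ i) v) (fun i _ => (hc.isWt_tw htop hχ _).1)
      (fun i hi l hl h => hc.tw_pow_inj hm hcm (Finset.mem_range.1 hi) (Finset.mem_range.1 hl) h)
      (fun i _ => hc.tw_apply htop hv _) (by simpa [powSum, LinearMap.sum_apply] using h0)
      0 (Finset.mem_range.2 hh.qp.pos)
    simpa using this
  refine ⟨fun h0 => ?_, fun τ hτ n hn hτn hτc => ?_⟩
  · obtain ⟨χ, hχ, u, -, hu0, hu⟩ := exists_wt_of_invariant (ρ := ρ) hab (U := ⊤) top_ne_bot
      (fun _ _ _ _ => Submodule.mem_top)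
    exact hu0 (hsep χ hχ u hu (by rw [h0]; rfl))
  have hwfix : ∀ χ, IsWt ρ (⊤ : Subgroup G) χ → ∀ v ∈ wt ρ (⊤ : Subgroup G) χ, τ v = v := by
    intro χ hχ v hv
    obtain ⟨m, hm, hcm⟩ := hstab χ hχ
    have hτw : ∀ (ψ : G → k), ∀ w ∈ wt ρ (⊤ : Subgroup G) ψ, τ w ∈ wt ρ (⊤ : Subgroup G) ψ :=
      fun ψ w hw => mem_wt.2 fun s hs => by
        rw [← Module.End.mul_apply, ← (hτ s).eq, Module.End.mul_apply, mem_wt.1 hw s hs, map_smul]
    have h0 : ∑ i ∈ Finset.range q, (τ (α (c ^ i) v) - α (c ^ i) v) = 0 := by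
      rw [Finset.sum_sub_distrib, sub_eq_zero, ← map_sum]
      simpa [powSum, LinearMap.sum_apply] using LinearMap.congr_fun hτc v
    have := wt_sum_eq_zero (ρ := ρ) (S := ⊤) (Finset.range q) (fun i => tw (c ^ i) χ)
      (fun i => τ (α (c ^ i) v) - α (c ^ i) v) (fun i _ => (hc.isWt_tw htop hχ _).1)
      (fun i hi l hl h => hc.tw_pow_inj hm hcm (Finset.mem_range.1 hi) (Finset.mem_range.1 hl) h)
      (fun i _ => sub_mem (hτw _ _ (hc.tw_apply htop hv _)) (hc.tw_apply htop hv _)) h0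
      0 (Finset.mem_range.2 hh.qp.pos)
    simpa [sub_eq_zero] using this
  by_contra hne
  obtain ⟨χ, hχ, u, hu, hu0, huw⟩ := exists_wt_of_invariant (ρ := ρ) hab
    (U := LinearMap.range (τ - 1))
    (fun h => hne (sub_eq_zero.1 (LinearMap.range_eq_bot.1 h)))
    (by
      rintro s hs _ ⟨z, rfl⟩
      refine ⟨ρ s z, ?_⟩
      rw [← Module.End.mul_apply, ← Module.End.mul_apply, sub_mul, mul_sub, one_mul, mul_one,
        (hτ s).eq])
  obtain ⟨z, hz⟩ := hu
  have hτu := hwfix χ hχ u huw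
  rw [LinearMap.sub_apply, Module.End.one_apply, sub_eq_iff_eq_add'] at hz
  have hiter : ∀ i : ℕ, (τ ^ i) z = z + (i : k) • u := by
    intro i
    induction i with
    | zero => simp
    | succ i ih =>
      rw [pow_succ', Module.End.mul_apply, ih, map_add, map_smul, hτu, hz, Nat.cast_succ, add_smul,
        one_smul, add_assoc, add_comm u]
  have h1 := hiter n
  rw [hτn, Module.End.one_apply] at h1
  exact hu0 ((smul_eq_zero.1 (left_eq_add.1 h1)).resolve_left hn)

/-- An abelian group without fixed vectors: some cyclic subgroup of `A` is singled out. -/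
theorem Ctx.fpf_abelian (hc : Ctx q ρ α) [Nontrivial E] (hcomm : ∀ g g' : G, g * g' = g' * g)
    (hsum : ∑ g : G, ρ g = 0) (hcard : (Nat.card G : k) ≠ 0) :
    ∃ m : A, m ≠ 1 ∧ (∃ u : G, u ≠ 1 ∧ m • u = u) ∧ ∀ b : A, b ∉ Subgroup.zpowers m →
      powSum q α b ≠ 0 ∧ ∀ [Fintype (fx G b)], ∑ u : fx G b, ρ (u : G) ≠ 0 := by
  classical
  have hh := hc.hyp
  have htop : Inv A (⊤ : Subgroup G) := fun _ _ _ => Subgroup.mem_top _
  have hab : ∀ g ∈ (⊤ : Subgroup G), ∀ g' ∈ (⊤ : Subgroup G), Commute (ρ g) (ρ g') :=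
    fun g _ g' _ => (show Commute g g' from hcomm g g').map ρ
  obtain ⟨χ, hχ, v, -, hv0, hv⟩ := exists_wt_of_invariant (ρ := ρ) hab (U := ⊤) top_ne_bot
    (fun _ _ _ _ => Submodule.mem_top)
  have hne := exists_ne_one_of_isWt hsum hcard hχ
  obtain ⟨m, hm1, hm⟩ := hc.exists_stab htop hχ hne
  refine ⟨m, hm1, ?_, fun b hb => ⟨fun h0 => hv0 ?_, ?_⟩⟩
  · obtain ⟨e, -, he, he1⟩ := hc.exists_fix_ne htop hm hχ hne
    exact ⟨e, fun h => he1 (h ▸ hχ.map_one), he⟩
  · have := wt_sum_eq_zero (ρ := ρ) (S := ⊤) (Finset.range q) (fun i => tw (b ^ i) χ)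
      (fun i => α (b ^ i) v) (fun i _ => (hc.isWt_tw htop hχ _).1)
      (fun i hi l hl h => hc.tw_pow_inj hm hb (Finset.mem_range.1 hi) (Finset.mem_range.1 hl) h)
      (fun i _ => hc.tw_apply htop hv _)
      (by simpa [powSum, LinearMap.sum_apply] using LinearMap.congr_fun h0 v)
      0 (Finset.mem_range.2 hh.qp.pos)
    simpa using this
  · intro _ h0
    have h1 := LinearMap.congr_fun h0 v
    rw [LinearMap.sum_apply, Finset.sum_congr rfl fun u _ =>
      (hc.fix_apply_aux htop hm hχ hb u.2).2 v hv, Finset.sum_const, Finset.card_univ,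
      ← Nat.card_eq_fintype_card, ← Nat.cast_smul_eq_nsmul k, LinearMap.zero_apply] at h1
    exact hv0 ((smul_eq_zero.1 h1).resolve_left
      (natCast_ne_zero_of_dvd (fx G b).card_subgroup_dvd_card hcard))

end Abelian

end CfsgLib.RankTwoFpf
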