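import Cfsg.Agent.Lib.RankTwoFpf.CaseOne
import Cfsg.Agent.Lib.RankTwoFpf.CaseTwo

/-!
A noncyclic group of order `q²` acting coprimely with abelian fixed point subgroups: the group
acted on is solvable.
-/

set_option autoImplicit false
set_option linter.style.haveILetI false
set_option linter.unusedSectionVars false

namespace CfsgLib.RankTwoFpf

open Subgroup
open scoped commutatorElement Pointwise

variable {A G : Type*} [Group A] [Group G] [MulDistribMulAction A G] [Finite G]

theorem card_range_mul (H K : Subgroup G) :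
    Nat.card (Set.range fun z : H × K => (z.1 : G) * z.2) * Nat.card ↥(H ⊓ K) =
      Nat.card H * Nat.card K := by
  classical
  set S := Set.range fun z : H × K => (z.1 : G) * z.2
  have hsec : ∀ x : S, ∃ z : H × K, (z.1 : G) * z.2 = x := fun x => x.2
  choose z hz using hsec
  let e : S × ↥(H ⊓ K) → H × K := fun w =>
    (⟨(z w.1).1 * w.2, H.mul_mem (z w.1).1.2 w.2.2.1⟩,
      ⟨(w.2 : G)⁻¹ * (z w.1).2, K.mul_mem (K.inv_mem w.2.2.2) (z w.1).2.2⟩)
  have he : ∀ w, ((e w).1 : G) * (e w).2 = w.1 := fun w => by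
    rw [← hz w.1]; simp [e, mul_assoc]
  have hb : Function.Bijective e := by
    refine ⟨fun w w' hww => ?_, fun p => ?_⟩
    · have h1 : w.1 = w'.1 := Subtype.ext (by rw [← he w, ← he w', hww])
      have h2 := congrArg (fun p : H × K => (p.1 : G)) hww
      simp only [e, h1] at h2
      exact Prod.ext h1 (Subtype.ext (mul_left_cancel h2))
    · let x : S := ⟨(p.1 : G) * p.2, p, rfl⟩
      have hx : ((z x).1 : G) * (z x).2 = (p.1 : G) * p.2 := hz x
      have hd : ((z x).1 : G)⁻¹ * p.1 = (z x).2 * (p.2 : G)⁻¹ := by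
        rw [eq_mul_inv_iff_mul_eq, mul_assoc, ← hx, inv_mul_cancel_left]
      refine ⟨(x, ⟨((z x).1 : G)⁻¹ * p.1,
        H.mul_mem (H.inv_mem (z x).1.2) p.1.2, hd ▸ K.mul_mem (z x).2.2 (K.inv_mem p.2.2)⟩), ?_⟩
      refine Prod.ext (Subtype.ext ?_) (Subtype.ext ?_)
      · simp [e]
      · show (((z x).1 : G)⁻¹ * p.1)⁻¹ * (z x).2 = p.2
        rw [hd]; group
  rw [← Nat.card_prod, ← Nat.card_prod]
  exact Nat.card_eq_of_bijective e hb

variable {q : ℕ} (h : Min A G q)
include h

/-- Each invariant Sylow subgroup is the product of its parts in `M` and `fx a`. -/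
theorem Min.sy_prod {M : Subgroup G} (hM : Inv A M) (a : A)
    (hc : ∀ c, c ∉ zpowers a → fx G c ≤ M) (p : ℕ) [Fact p.Prime] :
    ∀ x ∈ Sy A G p, ∃ m ∈ Sy A G p ⊓ M, ∃ f ∈ Sy A G p ⊓ fx G a, x = m * f := by
  classical
  set P := Sy A G p with hP
  haveI : Group.IsNilpotent P := (h.isPGroup_sy p).isNilpotent
  obtain ⟨n, hn⟩ := (inferInstance : Group.IsSolvable P).solvable
  let D : ℕ → Subgroup G := fun i => (derivedSeries P i).map P.subtype
  have hDP : ∀ i, D i ≤ P := fun i => map_subtype_le _
  have hD0 : D 0 = P := by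
    simp only [D, derivedSeries_zero, ← MonoidHom.range_eq_map, range_subtype]
  have hDs : ∀ i, D (i + 1) = ⁅D i, D i⁆ := fun i => by
    simp only [D, derivedSeries_succ, map_commutator]
  have hDi : ∀ i, Inv A (D i) := by
    intro i
    induction i with
    | zero => rw [hD0]; exact h.inv_sy p
    | succ i ih => rw [hDs]; exact ih.commutator ih
  have hDn : ∀ i, P ≤ normalizer (D i : Set G) := fun i => by
    haveI := derivedSeries_normal P i
    have := le_normalizer_map P.subtype (H := derivedSeries P i)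
    rwa [normalizer_eq_top, ← MonoidHom.range_eq_map, range_subtype] at this
  have key : ∀ i, ∀ x ∈ P, ∃ m ∈ P ⊓ M, ∃ z ∈ D i, ∃ f ∈ P ⊓ fx G a, x = m * z * f := by
    intro i
    induction i with
    | zero =>
      intro x hx
      exact ⟨1, one_mem _, x, hD0 ▸ hx, 1, one_mem _, by simp⟩
    | succ i ih =>
      intro x hx
      obtain ⟨m, hm, z, hz, f, hf, rfl⟩ := ih x hx
      set K := D (i + 1) ⊔ (D i ⊓ M) with hK
      have hKD : K ≤ D i := by
        refine sup_le ?_ inf_le_left
        rw [hDs]; exact commutator_le_self (D i)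
      have hKn : D i ≤ normalizer (K : Set G) := by
        rw [le_normalizer_iff]
        intro u hu k hk
        rw [show u * k * u⁻¹ = ⁅u, k⁆ * k by rw [commutatorElement_def]; group]
        refine K.mul_mem (mem_sup_left ?_) hk
        rw [hDs]; exact commutator_mem_commutator hu (hKD hk)
      have hW : D i ≤ K ⊔ (D i ⊓ fx G a) := h.le_of_fixed' (hDi i) a
        (fun y hy hya => mem_sup_right ⟨hy, hya⟩)
        fun b hb y hy hyb => mem_sup_left (mem_sup_right ⟨hy, hc b hb hyb⟩)
      obtain ⟨k, hk, f1, hf1, rfl⟩ :=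
        (Solvable.mem_sup_of_le_normalizer (inf_le_left.trans hKn)).1 (hW hz)
      obtain ⟨z', hz', m1, hm1, rfl⟩ :=
        (Solvable.mem_sup_of_le_normalizer ((inf_le_left.trans (hDP i)).trans (hDn (i + 1)))).1 hk
      refine ⟨m * m1, mul_mem hm ⟨hDP i hm1.1, hm1.2⟩, m1⁻¹ * z' * m1,
        ((mem_normalizer_iff''.1 (hDn (i + 1) (hDP i hm1.1))) z').1 hz', f1 * f,
        mul_mem ⟨hDP i hf1.1, hf1.2⟩ hf, by group⟩
  intro x hx
  obtain ⟨m, hm, z, hz, f, hf, rfl⟩ := key n x hx
  have hz1 : z = 1 := by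
    simpa [D, hn] using hz
  exact ⟨m, hm, f, hf, by rw [hz1, mul_one]⟩

/-- The final contradiction. -/
theorem Min.false_of_fixed {M : Subgroup G} (hM : IsMax A M) {a : A} (ha : a ≠ 1)
    (hX : M ⊓ fx G a ≠ ⊥) (hc : ∀ c, c ∉ zpowers a → fx G c ≤ M) : False := by
  classical
  set F := fx G a with hF
  have hFi : Inv A F := h.inv_fx a
  have hMFi : Inv A (M ⊓ F) := hM.inv.inf hFi
  have hcard : Nat.card G * Nat.card ↥(M ⊓ F) = Nat.card M * Nat.card F := by
    refine Nat.eq_of_factorization_eq (mul_ne_zero Nat.card_pos.ne' Nat.card_pos.ne')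
      (mul_ne_zero Nat.card_pos.ne' Nat.card_pos.ne') fun p => ?_
    rw [Nat.factorization_mul Nat.card_pos.ne' Nat.card_pos.ne',
      Nat.factorization_mul Nat.card_pos.ne' Nat.card_pos.ne', Finsupp.add_apply, Finsupp.add_apply]
    by_cases hp : p.Prime
    · haveI := Fact.mk hp
      set P := Sy A G p with hP
      have hrange : (Set.range fun z : ↥(P ⊓ M) × ↥(P ⊓ F) => (z.1 : G) * z.2) = (P : Set G) := by
        ext x
        constructor
        · rintro ⟨z, rfl⟩
          exact P.mul_mem z.1.2.1 z.2.2.1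
        · intro hx
          obtain ⟨m, hm, f, hf, rfl⟩ := h.sy_prod hM.inv a hc p x hx
          exact ⟨(⟨m, hm⟩, ⟨f, hf⟩), rfl⟩
      have h1 := card_range_mul (P ⊓ M) (P ⊓ F)
      rw [hrange, show (P ⊓ M) ⊓ (P ⊓ F) = P ⊓ (M ⊓ F) by rw [← inf_inf_distrib_left],
        h.card_sy_inf hMFi p, h.card_sy_inf hM.inv p, h.card_sy_inf hFi p] at h1
      have h2 := h.card_sy_inf (K := ⊤) inv_top p
      rw [inf_top_eq, Subgroup.card_top] at h2
      change Nat.card P * _ = _ at h1
      rw [h2, ← pow_add, ← pow_add] at h1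
      exact Nat.pow_right_injective hp.two_le h1
    · simp [Nat.factorization_eq_zero_of_not_prime _ hp]
  have hS := card_range_mul M F
  rw [← hcard] at hS
  have hsurj : ∀ g : G, ∃ m ∈ M, ∃ f ∈ F, g = m * f := by
    intro g
    have hS' : (Set.range fun z : M × F => (z.1 : G) * z.2) = Set.univ := by
      refine Set.eq_univ_iff_forall.2 fun x => ?_
      by_contra hx
      have hlt : Nat.card (Set.range fun z : M × F => (z.1 : G) * z.2) < Nat.card G :=
        Finite.card_subtype_lt (x := x) hx
      exact hlt.ne (Nat.eq_of_mul_eq_mul_right Nat.card_pos hS)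
    obtain ⟨z, hz⟩ : g ∈ Set.range fun z : M × F => (z.1 : G) * z.2 := hS' ▸ Set.mem_univ g
    exact ⟨z.1, z.1.2, z.2, z.2.2, hz.symm⟩
  have hN : normalClosure ((M ⊓ F : Subgroup G) : Set G) ≤ M := by
    refine (Subgroup.closure_le _).2 ?_
    intro y hy
    obtain ⟨x, hx, hxy⟩ := Group.mem_conjugatesOfSet_iff.1 hy
    obtain ⟨g, rfl⟩ := isConj_iff.1 hxy
    obtain ⟨m, hm, f, hf, rfl⟩ := hsurj g
    have h1 : f * x = x * f := h.ab a ha f x hf hx.2
    rw [show m * f * x * (m * f)⁻¹ = m * (f * x) * f⁻¹ * m⁻¹ by group, h1,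
      show m * (x * f) * f⁻¹ * m⁻¹ = m * x * m⁻¹ by group]
    exact M.mul_mem (M.mul_mem hm hx.1) (M.inv_mem hm)
  rcases h.simpleA _ normalClosure_normal (inv_normalClosure hMFi) with hb | ht
  · exact hX (eq_bot_iff.2 (hb ▸ subset_normalClosure))
  · exact hM.ne_top (top_le_iff.1 (ht ▸ hN))

theorem Min.false_of_min : False := by
  classical
  haveI := h.finA
  by_cases hC : CentralCase A G
  · obtain ⟨M, a, hM, ha, hX, hc⟩ := h.case_two hC
    exact h.false_of_fixed hM ha hX hc
  · simp only [CentralCase, not_forall] at hC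
    obtain ⟨M, hM, r, s, hr, hs, hrs, hnc⟩ := hC
    haveI := Fact.mk hr
    haveI := Fact.mk hs
    obtain ⟨a, ha, hX, hc⟩ := h.case_one hM hrs hnc
    exact h.false_of_fixed hM ha hX hc

omit h

universe u

theorem isSolvable_aux [Finite A] {q : ℕ} (hq : q.Prime) (hA : Nat.card A = q ^ 2)
    (hnc : ¬ IsCyclic A) (hcomm : ∀ a b : A, a * b = b * a) (hpow : ∀ a : A, a ^ q = 1) (n : ℕ) :
    ∀ (K : Type u) [Group K] [Finite K] [MulDistribMulAction A K], Nat.card K = n →
      ¬ q ∣ Nat.card K →
      (∀ a : A, a ≠ 1 → ∀ x y : K, a • x = x → a • y = y → x * y = y * x) →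
      Group.IsSolvable K := by
  induction n using Nat.strong_induction_on with
  | _ n ih =>
  intro K _ _ _ hcard hcop hab
  classical
  by_contra hns
  haveI : IsMulCommutative A := ⟨⟨hcomm⟩⟩
  have hsA : Group.IsSolvable A := Group.isSolvable_of_comm hcomm
  have hco : (Nat.card A).Coprime (Nat.card K) := by
    rw [hA]; exact ((hq.coprime_iff_not_dvd).2 hcop).pow_left 2
  have hproper : ∀ L : Subgroup K, Inv A L → L ≠ ⊤ → Group.IsSolvable L := fun L hL hLt => by
    letI := subAct L hL
    refine ih _ ?_ L rfl (fun hd => hcop (hd.trans L.card_subgroup_dvd_card))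
      fun a ha x y hx hy => Subtype.ext (hab a ha x y (congrArg Subtype.val hx)
        (congrArg Subtype.val hy))
    rw [← hcard]
    exact lt_of_le_of_ne L.card_le_card_group fun he => hLt (eq_top_of_card_eq L he)
  have hsimple : ∀ N : Subgroup K, N.Normal → Inv A N → N = ⊥ ∨ N = ⊤ := by
    intro N hN hNi
    by_contra hne
    push Not at hne
    haveI := hN
    haveI := hproper N hNi hne.2
    letI := quotAct N hNi
    haveI : Group.IsSolvable (K ⧸ N) := by
      refine ih _ ?_ (K ⧸ N) rfl (fun hd => hcop (hd.trans N.card_quotient_dvd_card)) ?_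
      · rw [← hcard, card_eq_card_quotient_mul_card_subgroup N]
        exact lt_mul_of_one_lt_right Nat.card_pos
          (Finite.one_lt_card_iff_nontrivial.2 ((nontrivial_iff_ne_bot _).2 hne.1))
      intro a ha x y hx hy
      have lift : ∀ x : K, ((a • x : K) : K ⧸ N) = x → ∃ d ∈ N, a • (x * d) = x * d := by
        intro x hx
        have hz : ∀ b : zpowers a, (((b : A) • x : K) : K ⧸ N) = x := fun b =>
          Hyp.smul_eq_of_mem_zpowers (G := K ⧸ N) (x := (x : K ⧸ N)) b.2 hx
        obtain ⟨d, hd, hfix⟩ := Solvable.exists_smul_fixed_mem_coset (A := zpowers a) (K := K)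
          (hco.coprime_dvd_left (card_subgroup_dvd_card _))
          (Or.inl (Group.isSolvable_of_comm fun b c => Subtype.ext (hcomm b c))) (D := N)
          (fun b z hz => hNi b z hz) (x := x) fun b => by
            have h1 := hz b
            rw [eq_comm, QuotientGroup.eq] at h1
            exact h1
        exact ⟨d, hd, hfix ⟨a, mem_zpowers a⟩⟩
      induction x using QuotientGroup.induction_on with
      | _ x =>
      induction y using QuotientGroup.induction_on with
      | _ y =>
      obtain ⟨d, hd, hxd⟩ := lift x hx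
      obtain ⟨e, he, hye⟩ := lift y hy
      have := congrArg (QuotientGroup.mk (s := N)) (hab a ha _ _ hxd hye)
      simpa [QuotientGroup.mk_mul, (QuotientGroup.eq_one_iff d).2 hd,
        (QuotientGroup.eq_one_iff e).2 he] using this
    exact hns (Group.isSolvable_of_ker_le_range N.subtype (QuotientGroup.mk' N) (by simp))
  have hfixA : ∀ g : K, (∀ a : A, a • g = g) → g = 1 := by
    intro g hg
    have htop := Solvable.eq_top_of_smul_fixed_mem (A := A) (K := K) hnc hco
      (centralizer ({g} : Set K)) fun a ha k hk => mem_centralizer_singleton_iff.2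
        (hab a ha k g hk (hg a))
    have hgc : g ∈ center K := mem_center_iff.2 fun k =>
      mem_centralizer_singleton_iff.1 (htop ▸ mem_top k : k ∈ centralizer ({g} : Set K))
    rcases hsimple (center K) inferInstance inv_center with hb | ht
    · rwa [hb, mem_bot] at hgc
    · exact (hns (Group.isSolvable_of_comm fun x y =>
        (mem_center_iff.1 (ht ▸ mem_top x : x ∈ center K) y).symm)).elim
  exact Min.false_of_min (q := q)
    { qp := hq, cardA := hA, comm := hcomm, pow := hpow, ncyc := hnc, cop := hcop, ab := hab,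
      fixA := hfixA, proper := hproper, simpleA := hsimple, nsolv := hns }

end CfsgLib.RankTwoFpf
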