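import Cfsg.Agent.Lib.RankTwoFpf.Setting

/-!
Maximal invariant subgroups of the minimal counterexample.
-/

set_option autoImplicit false
set_option linter.style.haveILetI false
set_option linter.unusedSectionVars false

namespace CfsgLib.RankTwoFpf

open Subgroup
open scoped commutatorElement Pointwise

variable {A G : Type*} [Group A] [Group G] [MulDistribMulAction A G]

variable (A) in
/-- A maximal proper invariant subgroup. -/
structure IsMax (M : Subgroup G) : Prop where
  inv : Inv A M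
  ne_top : M ≠ ⊤
  max : ∀ K : Subgroup G, Inv A K → K ≠ ⊤ → M ≤ K → K = M

variable [Finite G] {q : ℕ} (h : Min A G q)
include h

theorem Min.exists_max {K : Subgroup G} (hK : Inv A K) (hKt : K ≠ ⊤) :
    ∃ M, IsMax A M ∧ K ≤ M := by
  obtain ⟨M, hKM, hM⟩ := (Set.toFinite {L : Subgroup G | Inv A L ∧ L ≠ ⊤}).exists_le_maximal
    (show K ∈ _ from ⟨hK, hKt⟩)
  exact ⟨M, ⟨hM.prop.1, hM.prop.2,
    fun L hL hLt hML => le_antisymm (hM.2 ⟨hL, hLt⟩ hML) hML⟩, hKM⟩

theorem Min.center_eq_bot : center G = ⊥ :=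
  (h.simpleA _ inferInstance inv_center).resolve_right fun htop => h.nsolv
    (Group.isSolvable_of_comm fun a b => (mem_center_iff.1 (htop ▸ mem_top a : a ∈ center G) b).symm)

theorem Min.normalizer_ne_top {X : Subgroup G} (hX : Inv A X) (h0 : X ≠ ⊥) (ht : X ≠ ⊤) :
    normalizer (X : Set G) ≠ ⊤ := fun he =>
  (h.simpleA X (normalizer_eq_top_iff.1 he) hX).elim h0 ht

theorem Min.centralizer_ne_top {X : Subgroup G} (h0 : X ≠ ⊥) : centralizer (X : Set G) ≠ ⊤ := by
  intro he
  refine h0 (eq_bot_iff.2 fun x hx => ?_)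
  rw [← h.center_eq_bot, mem_center_iff]
  exact fun g => ((he ▸ mem_top g : g ∈ centralizer (X : Set G)) x hx).symm

theorem Min.normalizer_eq {M X : Subgroup G} (hM : IsMax A M) (hX : Inv A X) (hXM : X ≤ M)
    (h0 : X ≠ ⊥) (hMX : M ≤ normalizer (X : Set G)) : normalizer (X : Set G) = M :=
  hM.max _ hX.normalizer (h.normalizer_ne_top hX h0 fun ht => hM.ne_top (top_le_iff.1 (ht ▸ hXM)))
    hMX

theorem Min.centralizer_le {M X : Subgroup G} (hM : IsMax A M) (hX : Inv A X) (hXM : X ≤ M)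
    (h0 : X ≠ ⊥) (hMX : M ≤ normalizer (X : Set G)) : centralizer (X : Set G) ≤ M := by
  intro x hx
  rw [← h.normalizer_eq hM hX hXM h0 hMX, mem_normalizer_iff]
  intro y
  constructor
  · intro hy
    rwa [← hx y hy, mul_inv_cancel_right]
  · intro hy
    have h1 := hx _ hy
    have h2 : y = x * y * x⁻¹ := by
      refine mul_left_cancel (a := x) ?_
      rw [← h1]; group
    rw [h2]; exact hy

theorem Min.solvable {M : Subgroup G} (hM : IsMax A M) : Group.IsSolvable M :=
  h.proper M hM.inv hM.ne_top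

theorem Min.fit_centralizer_le {M : Subgroup G} (hM : IsMax A M) :
    M ⊓ centralizer (Cfsg.fittingOf M : Set G) ≤ Cfsg.fittingOf M :=
  OddOrder.inf_centralizer_fittingOf_le (h.solvable hM)

theorem Min.exists_op_ne_bot {M : Subgroup G} (hM : IsMax A M) (h0 : M ≠ ⊥) :
    ∃ t : ℕ, t.Prime ∧ Op t M ≠ ⊥ := by
  refine fit_eq_bot_or_exists.resolve_left fun hF => h0 (eq_bot_iff.2 ?_)
  refine le_trans (le_inf le_rfl ?_) (hF ▸ h.fit_centralizer_le hM)
  intro x _ y hy
  rw [coe_bot, Set.mem_singleton_iff] at hy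
  rw [hy, one_mul, mul_one]

/-- If `O_u(M)` is the whole Fitting subgroup, `M` contains a Sylow `u`-subgroup. -/
theorem Min.sy_le {M : Subgroup G} (hM : IsMax A M) {u : ℕ} [Fact u.Prime] (hu : Op u M ≠ ⊥)
    (hother : ∀ t : ℕ, t.Prime → t ≠ u → Op t M = ⊥) : Sy A G u ≤ M := by
  have hPp := h.toHyp.isPGroup_sy u
  have hop : Op u M ≤ Sy A G u := le_sy op_isPGroup (inv_piCoreOf hM.inv _)
  have heq : Sy A G u ⊓ M = Op u M := le_antisymm
    (h.le_op_of_centralized hM.inv hM.ne_top inf_le_right (hPp.to_le inf_le_left)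
      (le_inf hop op_le) fun t ht htu => by rw [hother t ht htu]; exact bot_le)
    (le_inf hop op_le)
  by_contra hle
  haveI : Group.IsNilpotent (Sy A G u) := hPp.isNilpotent
  have hlt : (Op u M).subgroupOf (Sy A G u) < ⊤ := by
    rw [lt_top_iff_ne_top, Ne, subgroupOf_eq_top]
    exact fun h' => hle (h'.trans op_le)
  obtain ⟨x, hx, hxO⟩ := SetLike.exists_of_lt
    (Group.normalizerCondition_of_isNilpotent ((Op u M).subgroupOf (Sy A G u)) hlt)
  have hxn : (x : G) ∈ normalizer (Op u M : Set G) := by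
    rw [← map_subgroupOf_eq_of_le hop]
    exact le_normalizer_map (Sy A G u).subtype ⟨x, hx, rfl⟩
  rw [h.normalizer_eq hM (inv_piCoreOf hM.inv _) op_le hu le_normalizer_op] at hxn
  exact hxO (mem_subgroupOf.2 (heq ▸ mem_inf.2 ⟨x.2, hxn⟩))

/-- Two maximal invariant subgroups containing each other's Fitting subgroup coincide. -/
theorem Min.eq_of_fit_le {M H : Subgroup G} (hM : IsMax A M) (hH : IsMax A H) (h0 : M ≠ ⊥)
    (h1 : Cfsg.fittingOf M ≤ H) (h2 : Cfsg.fittingOf H ≤ M) : H = M := by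
  have key : ∀ M H : Subgroup G, IsMax A M → IsMax A H → Cfsg.fittingOf M ≤ H →
      Cfsg.fittingOf H ≤ M → ∀ t : ℕ, t.Prime → Op t M ≤ Op t H := by
    intro M H hM hH h1 h2 t ht
    haveI := Fact.mk ht
    have hn1 : Op t M ≤ normalizer (Op t H : Set G) :=
      (op_le_fit.trans h1).trans le_normalizer_op
    have hW : IsPGroup t (Op t M ⊔ Op t H : Subgroup G) :=
      op_isPGroup.to_sup_of_normal_right' op_isPGroup hn1
    refine le_sup_left.trans (h.le_op_of_centralized hH.inv hH.ne_top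
      (sup_le (op_le_fit.trans h1) op_le) hW le_sup_right fun u hu hut => ?_)
    haveI := Fact.mk hu
    rw [le_centralizer_iff]
    refine sup_le ?_ (op_comm (Ne.symm hut))
    exact OddOrder.commute_of_normalize_disjoint
      ((op_le_fit.trans h1).trans le_normalizer_op) ((op_le_fit.trans h2).trans le_normalizer_op)
      (IsPGroup.disjoint_of_ne t u (Ne.symm hut) _ _ op_isPGroup op_isPGroup)
  obtain ⟨t, ht, ht0⟩ := h.exists_op_ne_bot hM h0
  haveI := Fact.mk ht
  have heq : Op t M = Op t H := le_antisymm (key M H hM hH h1 h2 t ht) (key H M hH hM h2 h1 t ht)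
  have hN := h.normalizer_eq hM (inv_piCoreOf hM.inv _) op_le ht0 le_normalizer_op
  rw [← hN]
  refine (h.normalizer_eq hH (inv_piCoreOf hM.inv _) ?_ ht0 ?_).symm
  · rw [show Cfsg.piCoreOf {t} M = Cfsg.piCoreOf {t} H from heq]; exact op_le
  · rw [show Cfsg.piCoreOf {t} M = Cfsg.piCoreOf {t} H from heq]; exact le_normalizer_op

/-- For `c ≠ 1` a maximal invariant subgroup above the centraliser of a part of `fx c`. -/
theorem Min.exists_max_centralizer {X : Subgroup G} (hX : Inv A X) (h0 : X ≠ ⊥) {c : A}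
    (hc : c ≠ 1) (hXc : X ≤ fx G c) :
    ∃ H, IsMax A H ∧ centralizer (X : Set G) ≤ H ∧ fx G c ≤ H ∧ H ≠ ⊥ := by
  obtain ⟨H, hH, hle⟩ := h.exists_max hX.centralizer (h.centralizer_ne_top h0)
  have hfc : fx G c ≤ H := fun x hx => hle fun y hy => h.ab c hc y x (hXc hy) hx
  exact ⟨H, hH, hle, hfc, fun hb => h0 (eq_bot_iff.2 (hb ▸ hXc.trans hfc))⟩

end CfsgLib.RankTwoFpf
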