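import Cfsg.Agent.Lib.RankTwoFpf.Linear
import Mathlib.FieldTheory.IsAlgClosed.AlgebraicClosure
import Mathlib.Algebra.Module.ZMod
import Mathlib.LinearAlgebra.Matrix.ToLin

/-!
The linear lemmas for actions on an elementary abelian group.
-/

set_option autoImplicit false
set_option linter.unusedSectionVars false
set_option linter.style.haveILetI false

namespace CfsgLib.RankTwoFpf

open Module

variable {A G M : Type*} [Group A] [Group G] [MulDistribMulAction A G] [CommGroup M] {r : ℕ}

/-- An automorphism of an abelian group of exponent `r` as a linear map. -/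
def endHom [Module (ZMod r) (Additive M)] : MulAut M →* Module.End (ZMod r) (Additive M) where
  toFun f := (MonoidHom.toAdditive f.toMonoidHom).toZModLinearMap r
  map_one' := LinearMap.ext fun _ => rfl
  map_mul' _ _ := LinearMap.ext fun _ => rfl

theorem endHom_apply [Module (ZMod r) (Additive M)] (f : MulAut M) (v : M) :
    endHom (r := r) f (Additive.ofMul v) = Additive.ofMul (f v) := rfl

theorem endHom_injective [Module (ZMod r) (Additive M)] :
    Function.Injective (endHom (M := M) (r := r)) := fun f g h =>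
  MulEquiv.ext fun v => Additive.ofMul.injective (LinearMap.congr_fun h (Additive.ofMul v))

theorem sum_endHom_apply [Module (ZMod r) (Additive M)] {ι : Type*} (s : Finset ι)
    (f : ι → MulAut M) (v : M) :
    (∑ i ∈ s, endHom (r := r) (f i)) (Additive.ofMul v) = Additive.ofMul (∏ i ∈ s, f i v) := by
  rw [LinearMap.sum_apply, ofMul_prod]
  rfl

theorem exists_closure_hom [Finite M] [Nontrivial M] [Fact r.Prime] [Module (ZMod r) (Additive M)] :
    ∃ n : ℕ, 0 < n ∧ ∃ Φ : Module.End (ZMod r) (Additive M) →+*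
        Module.End (AlgebraicClosure (ZMod r)) (Fin n → AlgebraicClosure (ZMod r)),
      Function.Injective Φ := by
  classical
  haveI : Finite (Additive M) := inferInstanceAs (Finite M)
  haveI : Nontrivial (Additive M) := inferInstanceAs (Nontrivial M)
  let b := Module.finBasis (ZMod r) (Additive M)
  let K := AlgebraicClosure (ZMod r)
  refine ⟨finrank (ZMod r) (Additive M), Module.finrank_pos,
    ((Matrix.toLinAlgEquiv' (R := K) (n := Fin _)).toRingEquiv.toRingHom.comp
      (algebraMap (ZMod r) K).mapMatrix).comp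
      (LinearMap.toMatrixAlgEquiv b).toRingEquiv.toRingHom, ?_⟩
  exact ((Matrix.toLinAlgEquiv' (R := K) (n := Fin _)).injective.comp
      (Matrix.map_injective (algebraMap (ZMod r) K).injective)).comp
      (LinearMap.toMatrixAlgEquiv b).injective

theorem prod_pow_fixed {q : ℕ} (α : A →* MulAut M) (a : A) (ha : a ^ q = 1) (v : M) :
    α a (∏ i ∈ Finset.range q, α (a ^ i) v) = ∏ i ∈ Finset.range q, α (a ^ i) v := by
  rw [map_prod]
  simp_rw [← MulAut.mul_apply, ← map_mul, ← pow_succ']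
  have h := Finset.prod_range_succ' (fun i => α (a ^ i) v) q
  rw [Finset.prod_range_succ, ha] at h
  simp only [pow_zero] at h
  exact (mul_right_cancel h).symm

/-- The common setting: the transferred representations form a `Ctx`. -/
theorem exists_ctx [Finite G] [Fintype A] [Finite M] [Nontrivial M] [hr : Fact r.Prime] {q : ℕ}
    [Module (ZMod r) (Additive M)] (h : Hyp A G q) (ρ : G →* MulAut M) (α : A →* MulAut M)
    (hcompat : ∀ (a : A) (g : G), α a * ρ g = ρ (a • g) * α a)
    (hfix : ∀ a : A, a ≠ 1 → ∀ u : G, a • u = u → ∀ v, α a v = v → ρ u v = v)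
    (hA : ∀ v, (∀ a, α a v = v) → v = 1) :
    ∃ n : ℕ, 0 < n ∧ ∃ Φ : Module.End (ZMod r) (Additive M) →+*
        Module.End (AlgebraicClosure (ZMod r)) (Fin n → AlgebraicClosure (ZMod r)),
      Function.Injective Φ ∧
        Ctx q ((Φ.toMonoidHom.comp endHom).comp ρ) ((Φ.toMonoidHom.comp endHom).comp α) := by
  classical
  obtain ⟨n, hn, Φ, hΦ⟩ := exists_closure_hom (M := M) (r := r)
  refine ⟨n, hn, Φ, hΦ, h, fun a g => ?_, fun a ha u hu => ?_, ?_⟩
  · simp only [MonoidHom.comp_apply]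
    rw [← map_mul, ← map_mul, ← map_mul, ← map_mul, hcompat]
  · show Φ (endHom (ρ u)) * ∑ i ∈ Finset.range q, Φ (endHom (α (a ^ i))) =
      ∑ i ∈ Finset.range q, Φ (endHom (α (a ^ i)))
    rw [← map_sum, ← map_mul]
    congr 1
    refine LinearMap.ext fun w => ?_
    obtain ⟨v, rfl⟩ := Additive.ofMul.surjective w
    rw [Module.End.mul_apply, sum_endHom_apply, endHom_apply,
      hfix a ha u hu _ (prod_pow_fixed α a (h.pow a) v)]
  · show ∑ a : A, Φ (endHom (α a)) = 0
    rw [← map_sum, show (∑ a : A, endHom (r := r) (α a)) = 0 from ?_, map_zero]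
    refine LinearMap.ext fun w => ?_
    obtain ⟨v, rfl⟩ := Additive.ofMul.surjective w
    rw [sum_endHom_apply, LinearMap.zero_apply, hA (∏ a : A, α a v) fun b => ?_, ofMul_one]
    rw [map_prod]
    exact Fintype.prod_equiv (Equiv.mulLeft b) _ _ fun a => by
      rw [Equiv.coe_mulLeft, map_mul]; rfl

variable [Finite A] [Finite G] [Finite M] [hr : Fact r.Prime] {q : ℕ}

/-- A solvable group acting without an invariant normal `r`-part has abelian image. -/
theorem commutator_acts_trivially (h : Hyp A G q) [Group.IsSolvable G] (hM : ∀ v : M, v ^ r = 1)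
    (ρ : G →* MulAut M) (α : A →* MulAut M)
    (hcompat : ∀ (a : A) (g : G), α a * ρ g = ρ (a • g) * α a)
    (hfix : ∀ a : A, a ≠ 1 → ∀ u : G, a • u = u → ∀ v, α a v = v → ρ u v = v)
    (hA : ∀ v, (∀ a, α a v = v) → v = 1)
    (hcore : ∀ N : Subgroup G, N.Normal → Inv A N → (∀ x ∈ N, ∃ j, ρ (x ^ r ^ j) = 1) →
      ∀ x ∈ N, ρ x = 1) :
    ∀ x ∈ commutator G, ρ x = 1 := by
  classical
  cases subsingleton_or_nontrivial M with
  | inl hsub => exact fun x _ => MulEquiv.ext fun v => Subsingleton.elim _ _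
  | inr hnt =>
  haveI := Fintype.ofFinite A
  have iM : Module (ZMod r) (Additive M) :=
    AddCommGroup.zmodModule (G := Additive M) (n := r) fun v =>
    show (Additive.toMul v) ^ r = 1 from hM _
  haveI : CharP (AlgebraicClosure (ZMod r)) r :=
    charP_of_injective_algebraMap (algebraMap (ZMod r) _).injective r
  obtain ⟨n, -, Φ, hΦ, hc⟩ := exists_ctx (r := r) h ρ α hcompat hfix hA
  have hinj : ∀ f : MulAut M, Φ (endHom f) = 1 → f = 1 := fun f hf =>
    endHom_injective (r := r) (by rw [map_one]; exact hΦ (by rw [map_one]; exact hf))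
  intro x hx
  refine hinj _ (hc.commutator_trivial r hr.out (fun N hN hi hp y hy => ?_) x hx)
  show Φ (endHom (ρ y)) = 1
  rw [hcore N hN hi (fun z hz => (hp z hz).imp fun j hj => hinj _ hj) y hy, map_one, map_one]

/-- An abelian group in the fixed points of `a` acting without fixed vectors. -/
theorem fpf_fixed_module [Fintype G] (h : Hyp A G q) [Nontrivial M] (hM : ∀ v : M, v ^ r = 1)
    (hrG : ¬ r ∣ Nat.card G)
    (ρ : G →* MulAut M) (α : A →* MulAut M)
    (hcompat : ∀ (a : A) (g : G), α a * ρ g = ρ (a • g) * α a)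
    (hfix : ∀ a : A, a ≠ 1 → ∀ u : G, a • u = u → ∀ v, α a v = v → ρ u v = v)
    (hA : ∀ v, (∀ a, α a v = v) → v = 1) (hY : ∀ v, ∏ g : G, ρ g v = 1)
    {a c : A} (ha : a ≠ 1) (hfixa : ∀ g : G, a • g = g) (hca : c ∉ Subgroup.zpowers a) :
    (∃ v : M, v ≠ 1 ∧ α c v = v) ∧ ∀ τ : MulAut M, (∀ g, Commute τ (ρ g)) →
      ∀ n : ℕ, ¬ r ∣ n → τ ^ n = 1 → (∀ v, α c v = v → τ v = v) → τ = 1 := by
  classical
  haveI := Fintype.ofFinite A
  have iM : Module (ZMod r) (Additive M) :=
    AddCommGroup.zmodModule (G := Additive M) (n := r) fun v =>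
    show (Additive.toMul v) ^ r = 1 from hM _
  haveI : CharP (AlgebraicClosure (ZMod r)) r :=
    charP_of_injective_algebraMap (algebraMap (ZMod r) _).injective r
  obtain ⟨n, hn, Φ, hΦ, hc⟩ := exists_ctx (r := r) h ρ α hcompat hfix hA
  haveI : Nonempty (Fin n) := ⟨⟨0, hn⟩⟩
  have hcast : ∀ m : ℕ, ¬ r ∣ m → (m : AlgebraicClosure (ZMod r)) ≠ 0 := fun m hm => by
    rwa [Ne, CharP.cast_eq_zero_iff _ r]
  obtain ⟨h1, h2⟩ := hc.fpf_fixed ha hfixa hca (by
    show ∑ g : G, Φ (endHom (ρ g)) = 0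
    rw [← map_sum, show (∑ g : G, endHom (r := r) (ρ g)) = 0 from ?_, map_zero]
    refine LinearMap.ext fun w => ?_
    obtain ⟨v, rfl⟩ := Additive.ofMul.surjective w
    rw [sum_endHom_apply, hY, ofMul_one, LinearMap.zero_apply]) (hcast _ hrG)
  have hS : powSum q ((Φ.toMonoidHom.comp endHom).comp α) c =
      Φ (∑ i ∈ Finset.range q, endHom (α (c ^ i))) := (map_sum Φ _ _).symm
  refine ⟨?_, fun τ hτ m hm hτm hτc => ?_⟩
  · by_contra hno
    push Not at hno
    refine h1 (hS.trans ?_)
    rw [show (∑ i ∈ Finset.range q, endHom (r := r) (α (c ^ i))) = 0 from ?_, map_zero]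
    refine LinearMap.ext fun w => ?_
    obtain ⟨v, rfl⟩ := Additive.ofMul.surjective w
    rw [sum_endHom_apply, LinearMap.zero_apply]
    by_contra hne
    exact hno _ (fun h1 => hne (by rw [h1, ofMul_one])) (prod_pow_fixed α c (h.pow c) v)
  · refine endHom_injective (r := r) (hΦ ?_)
    rw [map_one, map_one]
    refine h2 _ (fun g => (hτ g).map (Φ.toMonoidHom.comp endHom)) m (hcast m hm)
      (by rw [← map_pow, ← map_pow, hτm, map_one, map_one]) ?_
    rw [hS, ← map_mul]
    congr 1
    refine LinearMap.ext fun w => ?_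
    obtain ⟨v, rfl⟩ := Additive.ofMul.surjective w
    rw [Module.End.mul_apply, sum_endHom_apply, endHom_apply,
      hτc _ (prod_pow_fixed α c (h.pow c) v)]

/-- An abelian group acting without fixed vectors. -/
theorem fpf_abelian_module (h : Hyp A G q) [Nontrivial M] (hM : ∀ v : M, v ^ r = 1)
    (hrG : ¬ r ∣ Nat.card G) (hcomm : ∀ g g' : G, g * g' = g' * g)
    (ρ : G →* MulAut M) (α : A →* MulAut M)
    (hcompat : ∀ (a : A) (g : G), α a * ρ g = ρ (a • g) * α a)
    (hfix : ∀ a : A, a ≠ 1 → ∀ u : G, a • u = u → ∀ v, α a v = v → ρ u v = v)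
    (hA : ∀ v, (∀ a, α a v = v) → v = 1) (hG : ∀ v, (∀ g, ρ g v = v) → v = 1) :
    ∃ m : A, m ≠ 1 ∧ (∃ u : G, u ≠ 1 ∧ m • u = u) ∧ ∀ b : A, b ∉ Subgroup.zpowers m →
      (∃ v : M, v ≠ 1 ∧ α b v = v) ∧ ∃ v : M, v ≠ 1 ∧ ∀ u : G, b • u = u → ρ u v = v := by
  classical
  haveI := Fintype.ofFinite A
  haveI := Fintype.ofFinite G
  have iM : Module (ZMod r) (Additive M) :=
    AddCommGroup.zmodModule (G := Additive M) (n := r) fun v =>
    show (Additive.toMul v) ^ r = 1 from hM _
  haveI : CharP (AlgebraicClosure (ZMod r)) r :=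
    charP_of_injective_algebraMap (algebraMap (ZMod r) _).injective r
  obtain ⟨n, hn, Φ, hΦ, hc⟩ := exists_ctx (r := r) h ρ α hcompat hfix hA
  haveI : Nonempty (Fin n) := ⟨⟨0, hn⟩⟩
  obtain ⟨m, hm1, hm, hrest⟩ := hc.fpf_abelian hcomm (by
    show ∑ g : G, Φ (endHom (ρ g)) = 0
    rw [← map_sum, show (∑ g : G, endHom (r := r) (ρ g)) = 0 from ?_, map_zero]
    refine LinearMap.ext fun w => ?_
    obtain ⟨v, rfl⟩ := Additive.ofMul.surjective w
    rw [sum_endHom_apply, LinearMap.zero_apply, hG (∏ g : G, ρ g v) fun g => ?_, ofMul_one]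
    rw [map_prod]
    exact Fintype.prod_equiv (Equiv.mulLeft g) _ _ fun x => by
      rw [Equiv.coe_mulLeft, map_mul]; rfl)
    (by rwa [Ne, CharP.cast_eq_zero_iff _ r])
  refine ⟨m, hm1, hm, fun b hb => ⟨?_, ?_⟩⟩
  · by_contra hno
    push Not at hno
    refine (hrest b hb).1 ((map_sum Φ (fun i => endHom (α (b ^ i))) _).symm.trans ?_)
    rw [show (∑ i ∈ Finset.range q, endHom (r := r) (α (b ^ i))) = 0 from ?_, map_zero]
    refine LinearMap.ext fun w => ?_
    obtain ⟨v, rfl⟩ := Additive.ofMul.surjective w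
    rw [sum_endHom_apply, LinearMap.zero_apply]
    by_contra hne
    exact hno _ (fun h1 => hne (by rw [h1, ofMul_one])) (prod_pow_fixed α b (h.pow b) v)
  · by_contra hno
    push Not at hno
    haveI := Fintype.ofFinite (fx G b)
    refine (hrest b hb).2 ((map_sum Φ (fun u : fx G b => endHom (ρ (u : G))) _).symm.trans ?_)
    rw [show (∑ u : fx G b, endHom (r := r) (ρ (u : G))) = 0 from ?_, map_zero]
    refine LinearMap.ext fun w => ?_
    obtain ⟨v, rfl⟩ := Additive.ofMul.surjective w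
    rw [sum_endHom_apply, LinearMap.zero_apply]
    by_contra hne
    obtain ⟨u, hu, hu1⟩ := hno (∏ u : fx G b, ρ (u : G) v) (fun h1 => hne (by rw [h1, ofMul_one]))
    refine hu1 ?_
    rw [map_prod]
    exact Fintype.prod_equiv (Equiv.mulLeft (⟨u, hu⟩ : fx G b)) _ _ fun x => by
      rw [Equiv.coe_mulLeft, Subgroup.coe_mul, map_mul]; rfl

end CfsgLib.RankTwoFpf
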