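import Cfsg.Agent.Lib.RankTwoFpf.Maximal
import Cfsg.Agent.Lib.RankTwoFpf.CaseOne
import Cfsg.Agent.Lib.MaxCentralizer.Solvable
import Cfsg.Agent.Lib.KSteps.Basic
import Cfsg.Agent.Lib.PLocal.Thompson
import Cfsg.Agent.S0117

/-!
The centres of the components, and the case of nilpotent maximal invariant subgroups.
-/

set_option autoImplicit false
set_option linter.style.haveILetI false
set_option linter.unusedSectionVars false

namespace CfsgLib.RankTwoFpf

open Subgroup
open scoped commutatorElement Pointwise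

variable {A G : Type*} [Group A] [Group G] [MulDistribMulAction A G]

variable (A) in
/-- The part of an `r`-component fixed by the Sylow `r`-subgroup of `M`. -/
abbrev Zc (r : ℕ) (M : Subgroup G) : Subgroup G :=
  Op r M ⊓ centralizer ((Sy A G r ⊓ M : Subgroup G) : Set G)

variable (A G) in
/-- No Sylow subgroup moves the centre of another component. -/
def CentralCase : Prop :=
  ∀ M : Subgroup G, IsMax A M → ∀ r s : ℕ, r.Prime → s.Prime → r ≠ s →
    Sy A G s ⊓ M ≤ centralizer (Z0 r M : Set G)

variable [Finite G] {q : ℕ} (h : Min A G q)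
include h

theorem Min.op_le_sy_inf {M : Subgroup G} (hM : IsMax A M) (r : ℕ) [Fact r.Prime] :
    Op r M ≤ Sy A G r ⊓ M :=
  le_inf (le_sy op_isPGroup (inv_piCoreOf hM.inv _)) op_le

theorem Min.inv_zc {M : Subgroup G} (hM : IsMax A M) (r : ℕ) [Fact r.Prime] :
    Inv A (Zc A r M) :=
  (inv_piCoreOf hM.inv _).inf ((h.inv_sy r).inf hM.inv).centralizer

theorem Min.zc_ne_bot {M : Subgroup G} (hM : IsMax A M) {r : ℕ} [Fact r.Prime]
    (hr : Op r M ≠ ⊥) : Zc A r M ≠ ⊥ := by
  obtain ⟨b, hb, hb1, hbc⟩ := KSteps.exists_fixed_of_normalizes (p := r) (Sy A G r ⊓ M) (Op r M)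
    ((h.isPGroup_sy r).to_le inf_le_left) op_isPGroup hr
    (fun g hg x hx => ((mem_normalizer_iff.1 (le_normalizer_op hg.2)) x).1 hx)
  intro h0
  have : b ∈ Zc A r M := ⟨hb, hbc⟩
  rw [h0, mem_bot] at this
  exact hb1 this

theorem Min.le_centralizer_zc (hC : CentralCase A G) {M : Subgroup G} (hM : IsMax A M) {r : ℕ}
    [hr : Fact r.Prime] : M ≤ centralizer (Zc A r M : Set G) := by
  refine h.toHyp.le_of_sylows hM.inv fun p hp => ?_
  by_cases hpr : p = r
  · subst hpr
    exact le_centralizer_iff.1 inf_le_right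
  · exact (hC M hM r p hr.out hp (Ne.symm hpr)).trans (Subgroup.centralizer_le
      (inf_le_inf_left _ (Subgroup.centralizer_le (h.op_le_sy_inf hM r))))

theorem Min.centralizer_zc_le (hC : CentralCase A G) {M : Subgroup G} (hM : IsMax A M) {r : ℕ}
    [Fact r.Prime] (hr : Op r M ≠ ⊥) : centralizer (Zc A r M : Set G) ≤ M :=
  h.centralizer_le hM (h.inv_zc hM r) (inf_le_left.trans op_le) (h.zc_ne_bot hM hr)
    ((h.le_centralizer_zc hC hM).trans (centralizer_le_normalizer _))

/-- If every Sylow subgroup centralises every other component, all maximal invariant subgroups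
are nilpotent. -/
theorem Min.isNilpotent_of_central {M : Subgroup G} (hM : IsMax A M)
    (hall : ∀ r s : ℕ, r.Prime → s.Prime → r ≠ s → Sy A G s ⊓ M ≤ centralizer (Op r M : Set G)) :
    Group.IsNilpotent M := by
  have hle : M ≤ Cfsg.fittingOf M := h.toHyp.le_of_sylows hM.inv fun p hp => by
    haveI := Fact.mk hp
    exact (h.le_op_of_centralized hM.inv hM.ne_top inf_le_right
      ((h.isPGroup_sy p).to_le inf_le_left) (h.op_le_sy_inf hM p)
      fun t ht htp => le_centralizer_iff.1 (hall t p ht hp htp)).trans op_le_fit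
  have := OddOrder.fittingOf_isNilpotent M
  rwa [le_antisymm (OddOrder.fittingOf_le M) hle] at this

theorem Min.not_all_nilpotent (hnil : ∀ M : Subgroup G, IsMax A M → Group.IsNilpotent M) :
    False := by
  classical
  haveI := h.finA
  obtain ⟨r, hr, hr2, hrd⟩ : ∃ r : ℕ, r.Prime ∧ r ≠ 2 ∧ r ∣ Nat.card G := by
    by_contra hno
    push Not at hno
    have h2 : IsPGroup 2 G := IsPGroup.of_card (n := (Nat.card G).primeFactorsList.length)
      (Nat.eq_prime_pow_of_unique_prime_dvd Nat.card_pos.ne' fun {d} hd hdd => by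
        by_contra hd2
        exact hno d hd hd2 hdd)
    haveI := Fact.mk Nat.prime_two
    haveI := h2.isNilpotent
    exact h.nsolv inferInstance
  haveI := Fact.mk hr
  obtain ⟨P, hP, hPi⟩ := h.exists_sy r
  set J := Cfsg.thompsonSubgroupOf r (Sy A G r) with hJ
  haveI := CfsgLib.PLocal.thompsonSubgroup_characteristic (p := r) (G := Sy A G r)
  have hJi : Inv A J := inv_map_subtype hPi _
  set Z := Cfsg.centerThompsonOf r (Sy A G r) with hZ
  have hZi : Inv A Z := hJi.inf hJi.centralizer
  have hSd : r ∣ Nat.card (Sy A G r) := by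
    rw [← hP]; exact P.dvd_card_of_dvd_card hrd
  have hJ0 : J ≠ ⊥ := fun h0 => CfsgLib.PLocal.thompsonSubgroup_ne_bot hSd
    (map_injective (Sy A G r).subtype_injective (h0.trans (Subgroup.map_bot _).symm))
  have hJp : IsPGroup r J := (h.isPGroup_sy r).to_le (map_subtype_le _)
  obtain ⟨b, hb, hb1, hbc⟩ := KSteps.exists_fixed_of_normalizes (p := r) J J hJp hJp hJ0
    (fun g hg x hx => J.mul_mem (J.mul_mem hg hx) (J.inv_mem hg))
  have hZ0 : Z ≠ ⊥ := fun h0 => hb1 (mem_bot.1 (h0 ▸ (⟨hb, hbc⟩ : b ∈ Z)))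
  have hZt : Z ≠ ⊤ := fun ht => h.nsolv (Group.isSolvable_of_comm fun x y =>
    ((ht ▸ mem_top y : y ∈ Z).2 x (ht ▸ mem_top x : x ∈ Z).1))
  obtain ⟨M, hM, hNM⟩ := h.exists_max hZi.normalizer (h.normalizer_ne_top hZi hZ0 hZt)
  haveI := hnil M hM
  have hN : Group.IsNilpotent (normalizer (Z : Set G)) :=
    Group.nilpotent_of_mulEquiv (subgroupOfEquivOfLe hNM)
  have hcomp : Cfsg.HasNormalPComplement r (normalizer (Z : Set G)) :=
    CfsgLib.MaxCentralizer.hasNormalPComplement_of_isNilpotent r hN
  rw [hZ, ← hP] at hcomp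
  obtain ⟨Q, N, hNn, hNQ⟩ := (Cfsg.Agent.S0117.result hr2 P).2 hcomp
  haveI := hNn
  have hQc : Nat.card (Q : Subgroup G) = r ^ (Nat.card G).factorization r := Q.card_eq_multiplicity
  have hmul : Nat.card N * Nat.card (Q : Subgroup G) = Nat.card G := hNQ.card_mul
  have hNc : ¬ r ∣ Nat.card N := by
    intro hd
    have h1 : r ^ ((Nat.card G).factorization r + 1) ∣ Nat.card G := by
      refine dvd_trans ?_ (dvd_of_eq hmul)
      rw [pow_succ', hQc]
      exact mul_dvd_mul_right hd _
    exact Nat.pow_succ_factorization_not_dvd Nat.card_pos.ne' hr h1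
  have hNi : Inv A N := by
    intro a x hx
    have hord : orderOf (a • x) = orderOf x :=
      orderOf_injective (MulDistribMulAction.toMulAut A G a).toMonoidHom
        (MulDistribMulAction.toMulAut A G a).injective x
    have hidx : N.index = r ^ (Nat.card G).factorization r := by
      have h1 := N.card_mul_index
      rw [← hmul, hQc] at h1
      exact Nat.eq_of_mul_eq_mul_left Nat.card_pos h1
    rw [← QuotientGroup.eq_one_iff, ← orderOf_eq_one_iff]
    refine Nat.eq_one_of_dvd_coprimes
      (((hr.coprime_iff_not_dvd).2 hNc).pow_left ((Nat.card G).factorization r)).symm ?_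
      ((_root_.orderOf_dvd_natCard _).trans (dvd_of_eq hidx))
    exact (orderOf_map_dvd (QuotientGroup.mk' N) (a • x)).trans
      (hord ▸ OddOrder.orderOf_dvd_card_of_mem hx)
  rcases h.simpleA N hNn hNi with hb | ht
  · have : IsPGroup r G := IsPGroup.of_card (n := (Nat.card G).factorization r) (by
      rw [← hQc, ← hmul, hb, card_bot, one_mul])
    haveI := this.isNilpotent
    exact h.nsolv inferInstance
  · exact hNc (ht ▸ (Subgroup.card_top (G := G)).symm ▸ hrd)

end CfsgLib.RankTwoFpf
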