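import Cfsg.Agent.Lib.RankTwoFpf.Derived
import Cfsg.Agent.Lib.OddOrder.Fitting

/-!
The minimal counterexample: invariant Sylow subgroups, maximal invariant subgroups and their
Fitting components.
-/

set_option autoImplicit false
set_option linter.style.haveILetI false
set_option linter.unusedSectionVars false

namespace CfsgLib.RankTwoFpf

open Subgroup
open scoped commutatorElement Pointwise

variable {A G : Type*} [Group A] [Group G] [MulDistribMulAction A G]

/-- The minimal counterexample. -/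
structure Min (A G : Type*) [Group A] [Group G] [MulDistribMulAction A G] (q : ℕ) : Prop
    extends Hyp A G q where
  proper : ∀ K : Subgroup G, Inv A K → K ≠ ⊤ → Group.IsSolvable K
  simpleA : ∀ K : Subgroup G, K.Normal → Inv A K → K = ⊥ ∨ K = ⊤
  nsolv : ¬ Group.IsSolvable G

/-! ### Invariance -/

theorem inv_top : Inv A (⊤ : Subgroup G) := fun _ _ _ => mem_top _

theorem inv_bot : Inv A (⊥ : Subgroup G) := fun a x hx => by
  rw [mem_bot] at hx ⊢; rw [hx, smul_one]

theorem Inv.inf {H K : Subgroup G} (hH : Inv A H) (hK : Inv A K) : Inv A (H ⊓ K) :=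
  fun a x hx => ⟨hH a x hx.1, hK a x hx.2⟩

theorem inv_of_map_le {K : Subgroup G}
    (h : ∀ a : A, K.map (MulDistribMulAction.toMulAut A G a).toMonoidHom ≤ K) : Inv A K :=
  fun a _ hx => h a (mem_map_of_mem _ hx)

theorem Inv.map_le {K : Subgroup G} (hK : Inv A K) (a : A) :
    K.map (MulDistribMulAction.toMulAut A G a).toMonoidHom ≤ K := by
  rintro _ ⟨x, hx, rfl⟩
  exact hK a x hx

theorem Inv.sup {H K : Subgroup G} (hH : Inv A H) (hK : Inv A K) : Inv A (H ⊔ K) :=
  inv_of_map_le fun a => by rw [Subgroup.map_sup]; exact sup_le_sup (hH.map_le a) (hK.map_le a)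

theorem Inv.commutator {H K : Subgroup G} (hH : Inv A H) (hK : Inv A K) : Inv A ⁅H, K⁆ :=
  inv_of_map_le fun a => by
    rw [Subgroup.map_commutator]; exact commutator_mono (hH.map_le a) (hK.map_le a)

theorem Inv.centralizer {K : Subgroup G} (hK : Inv A K) : Inv A (centralizer (K : Set G)) :=
  fun a x hx k hk => by
    have h1 := congrArg (a • ·) (hx (a⁻¹ • k) (hK a⁻¹ k hk))
    simpa [smul_mul'] using h1

theorem Inv.normalizer {K : Subgroup G} (hK : Inv A K) : Inv A (normalizer (K : Set G)) := by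
  intro a x hx
  rw [mem_normalizer_iff] at hx ⊢
  intro k
  have hiff : ∀ k : G, a • k ∈ K ↔ k ∈ K := fun k =>
    ⟨fun h => by simpa using hK a⁻¹ _ h, hK a k⟩
  have h1 := hx (a⁻¹ • k)
  rw [← hiff (a⁻¹ • k), ← hiff (x * _ * _), smul_inv_smul] at h1
  simpa [smul_mul', smul_inv'] using h1

theorem inv_center : Inv A (center G) := fun a x hx => by
  rw [mem_center_iff] at hx ⊢
  intro g
  have h1 := congrArg (a • ·) (hx (a⁻¹ • g))
  simpa [smul_mul'] using h1

theorem inv_normalClosure {X : Subgroup G} (hX : Inv A X) :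
    Inv A (normalClosure (X : Set G)) := by
  intro a
  haveI : ((normalClosure (X : Set G)).comap
      (MulDistribMulAction.toMulAut A G a).toMonoidHom).Normal :=
    Normal.comap normalClosure_normal _
  have hle : normalClosure (X : Set G) ≤ (normalClosure (X : Set G)).comap
      (MulDistribMulAction.toMulAut A G a).toMonoidHom :=
    normalClosure_le_normal fun x hx => subset_normalClosure (hX a x hx)
  exact fun x hx => hle hx

theorem inv_map_subtype [Finite G] {K : Subgroup G} (hK : Inv A K) (C : Subgroup K)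
    [C.Characteristic] : Inv A (C.map K.subtype) := by
  rintro a _ ⟨x, hx, rfl⟩
  refine ⟨actHom K hK a x, ?_, rfl⟩
  have h1 : C.map (actHom K hK a).toMonoidHom = C :=
    characteristic_iff_map_eq.1 inferInstance _
  rw [← h1]
  exact mem_map_of_mem _ hx

theorem inv_fittingOf [Finite G] {M : Subgroup G} (hM : Inv A M) : Inv A (Cfsg.fittingOf M) :=
  haveI := Solvable.fittingSubgroup_characteristic M
  inv_map_subtype hM _

theorem inv_piCoreOf [Finite G] {M : Subgroup G} (hM : Inv A M) (π : Set ℕ) :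
    Inv A (Cfsg.piCoreOf π M) :=
  haveI := OddOrder.piCore_characteristic π M
  inv_map_subtype hM _

/-! ### Invariant Sylow subgroups -/

variable (A G) in
/-- The join of the invariant `p`-subgroups. -/
def Sy (p : ℕ) : Subgroup G := sSup {Q | IsPGroup p Q ∧ Inv A Q}

theorem le_sy {p : ℕ} {Q : Subgroup G} (hQ : IsPGroup p Q) (hQi : Inv A Q) : Q ≤ Sy A G p :=
  le_sSup ⟨hQ, hQi⟩

variable [Finite G] {q : ℕ}

theorem Hyp.exists_sy (h : Hyp A G q) (p : ℕ) [Fact p.Prime] :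
    ∃ P : Sylow p G, (P : Subgroup G) = Sy A G p ∧ Inv A (Sy A G p) := by
  haveI := h.finA
  obtain ⟨P, -, hP⟩ := Solvable.exists_smul_invariant_sylow h.coprime (Or.inl h.solvA) p
    (U := (⊥ : Subgroup G)) IsPGroup.of_bot (fun a u hu => inv_bot a u hu)
  have hle : Sy A G p ≤ P := by
    refine sSup_le fun Q hQ => ?_
    obtain ⟨P', hQP', hP'⟩ := Solvable.exists_smul_invariant_sylow h.coprime (Or.inl h.solvA) p
      hQ.1 hQ.2
    obtain ⟨c, hc, hcP⟩ := Solvable.exists_smul_fixed_conj_sylow h.coprime (Or.inl h.solvA) P P'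
      hP hP'
    rw [h.fixA c hc, one_smul] at hcP
    rw [hcP]
    exact hQP'
  have heq : (P : Subgroup G) = Sy A G p := le_antisymm (le_sy P.2 hP) hle
  exact ⟨P, heq, heq ▸ hP⟩

theorem Hyp.inv_sy (h : Hyp A G q) (p : ℕ) [Fact p.Prime] : Inv A (Sy A G p) :=
  let ⟨_, _, hi⟩ := h.exists_sy p; hi

theorem Hyp.isPGroup_sy (h : Hyp A G q) (p : ℕ) [Fact p.Prime] : IsPGroup p (Sy A G p) := by
  obtain ⟨P, hP, -⟩ := h.exists_sy p
  exact hP ▸ P.2

theorem Hyp.exists_sy_inf (h : Hyp A G q) {K : Subgroup G} (hK : Inv A K) (p : ℕ)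
    [Fact p.Prime] : ∃ Q : Sylow p K, (Q : Subgroup K).map K.subtype = Sy A G p ⊓ K := by
  letI := subAct K hK
  obtain ⟨Q, hQ, hQi⟩ := (h.restrict hK).exists_sy p
  refine ⟨Q, le_antisymm (le_inf (le_sy (Q.2.map _) ?_) (map_subtype_le _)) ?_⟩
  · rintro a _ ⟨x, hx, rfl⟩
    exact ⟨a • x, by rw [hQ]; exact hQi a x (hQ ▸ hx), rfl⟩
  · have h1 : (Sy A G p ⊓ K).subgroupOf K ≤ (Q : Subgroup K) := by
      refine (Q.3 ?_ ?_).le
      · exact ((h.isPGroup_sy p).to_le inf_le_left).of_equiv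
          (subgroupOfEquivOfLe inf_le_right).symm
      · intro x hx
        refine mem_subgroupOf.2 ⟨le_sy (Q.2.map K.subtype) ?_ (mem_map_of_mem _ hx), x.2⟩
        rintro a _ ⟨y, hy, rfl⟩
        exact ⟨a • y, by rw [hQ]; exact hQi a y (hQ ▸ hy), rfl⟩
    rw [← map_subgroupOf_eq_of_le (inf_le_right : Sy A G p ⊓ K ≤ K)]
    exact map_mono h1

theorem Hyp.card_sy_inf (h : Hyp A G q) {K : Subgroup G} (hK : Inv A K) (p : ℕ) [Fact p.Prime] :
    Nat.card ↥(Sy A G p ⊓ K) = p ^ (Nat.card K).factorization p := by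
  obtain ⟨Q, hQ⟩ := h.exists_sy_inf hK p
  rw [← hQ, card_subtype, Q.card_eq_multiplicity]

theorem Hyp.le_of_sylows (h : Hyp A G q) {K W : Subgroup G} (hK : Inv A K)
    (hW : ∀ p : ℕ, p.Prime → Sy A G p ⊓ K ≤ W) : K ≤ W := by
  have : K ⊓ W = K := by
    refine eq_of_le_of_card_ge inf_le_left (Nat.le_of_dvd Nat.card_pos ?_)
    refine (Nat.dvd_iff_prime_pow_dvd_dvd _ _).2 fun p k hp hpk => ?_
    haveI := Fact.mk hp
    refine dvd_trans ?_ (card_dvd_of_le (le_inf inf_le_right (hW p hp) : Sy A G p ⊓ K ≤ K ⊓ W))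
    rw [h.card_sy_inf hK p]
    exact Nat.pow_dvd_pow p ((hp.pow_dvd_iff_le_factorization Nat.card_pos.ne').1 hpk)
  exact inf_eq_left.1 this

theorem Hyp.sy_inf_ne_bot (h : Hyp A G q) {K : Subgroup G} (hK : Inv A K) {p : ℕ} [Fact p.Prime]
    (hp : p ∣ Nat.card K) : Sy A G p ⊓ K ≠ ⊥ := by
  intro h0
  have h1 := h.card_sy_inf hK p
  rw [h0, card_bot] at h1
  have h2 := Nat.Prime.factorization_pos_of_dvd (Fact.out : p.Prime) Nat.card_pos.ne' hp
  exact absurd h1 (Nat.one_lt_pow h2.ne' (Fact.out : p.Prime).one_lt).ne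

/-- The Frattini argument for invariant Sylow subgroups. -/
theorem Hyp.frattini_arg (h : Hyp A G q) {M W : Subgroup G} (hW : Inv A W)
    (hMW : M ≤ normalizer (W : Set G)) (hWM : W ≤ M) (s : ℕ) [Fact s.Prime] :
    M ≤ W ⊔ (M ⊓ normalizer ((Sy A G s ⊓ W : Subgroup G) : Set G)) := by
  intro m hm
  obtain ⟨Q, hQ⟩ := h.exists_sy_inf hW s
  obtain ⟨Q', hQ'⟩ := Solvable.conj_smul_map_sylow (hMW hm) Q
  obtain ⟨w, hw⟩ := MulAction.exists_smul_eq W Q Q'
  have h1 := congrArg (fun R : Sylow s W => (R : Subgroup W).map W.subtype) hw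
  change (MulAut.conj w • (Q : Subgroup W)).map W.subtype = _ at h1
  rw [Solvable.map_conj_smul, hQ'] at h1
  rw [hQ] at h1
  have h2 : (w : G)⁻¹ * m ∈ normalizer ((Sy A G s ⊓ W : Subgroup G) : Set G) := by
    rw [← Solvable.conj_smul_eq_self_iff, map_mul, mul_smul, ← h1, map_inv]
    exact inv_smul_smul _ _
  have : m = w * ((w : G)⁻¹ * m) := by group
  rw [this]
  exact mul_mem (mem_sup_left w.2)
    (mem_sup_right ⟨M.mul_mem (M.inv_mem (hWM w.2)) hm, h2⟩)

/-! ### Fitting components -/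

/-- The `r`-component of the Fitting subgroup. -/
abbrev Op (r : ℕ) (M : Subgroup G) : Subgroup G := Cfsg.piCoreOf {r} M

/-- The `r'`-component of the Fitting subgroup. -/
abbrev Fc (r : ℕ) (M : Subgroup G) : Subgroup G :=
  Cfsg.piCoreOf {s | s.Prime ∧ s ∉ ({r} : Set ℕ)} (Cfsg.fittingOf M)

/-- The centre of an `r`-component. -/
abbrev Z0 (r : ℕ) (M : Subgroup G) : Subgroup G := Op r M ⊓ centralizer (Op r M : Set G)

variable {M : Subgroup G} {r : ℕ} [hr : Fact r.Prime]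

theorem op_le : Op r M ≤ M := OddOrder.piCoreOf_le _ _

theorem le_normalizer_op : M ≤ normalizer (Op r M : Set G) := OddOrder.le_normalizer_piCoreOf _ _

theorem op_isPGroup : IsPGroup r (Op r M) := OddOrder.piCoreOf_singleton_isPGroup r M

theorem op_le_fit : Op r M ≤ Cfsg.fittingOf M :=
  OddOrder.le_fittingOf op_le le_normalizer_op op_isPGroup.isNilpotent

theorem op_comm {t : ℕ} (ht : t ≠ r) : Op t M ≤ centralizer (Op r M : Set G) :=
  OddOrder.piCoreOf_le_centralizer_piCoreOf M fun s hs hs' _ =>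
    ht ((Set.mem_singleton_iff.1 hs).symm.trans (Set.mem_singleton_iff.1 hs'))

theorem le_op {N : Subgroup G} (hNM : N ≤ M) (hMN : M ≤ normalizer (N : Set G))
    (hN : IsPGroup r N) : N ≤ Op r M :=
  OddOrder.le_piCoreOf hNM hMN (OddOrder.isPiSubgroup_singleton.2 hN)

theorem mem_op_of_mem_fit {x : G} (hx : x ∈ Cfsg.fittingOf M) {k : ℕ} (hk : x ^ r ^ k = 1) :
    x ∈ Op r M := by
  show x ∈ Cfsg.piCoreOf {r} M
  rw [← OddOrder.piCoreOf_singleton_fittingOf M r]
  refine OddOrder.mem_piCoreOf_of_nilpotent (OddOrder.fittingOf_isNilpotent M) hx fun s hs hd => ?_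
  exact Set.mem_singleton_iff.2 ((Nat.prime_dvd_prime_iff_eq hs hr.out).1
    (hs.dvd_of_dvd_pow (hd.trans (orderOf_dvd_of_pow_eq_one hk))))

omit hr in
theorem fit_le {W : Subgroup G} (h : ∀ t : ℕ, t.Prime → Op t M ≤ W) : Cfsg.fittingOf M ≤ W := by
  intro x hx
  refine OddOrder.mem_of_forall_exists_pow_mem (orderOf_pos x) fun s hs _ => ?_
  haveI := Fact.mk hs
  refine ⟨orderOf x / s ^ (orderOf x).factorization s,
    Nat.not_dvd_ordCompl hs (orderOf_pos x).ne',
    h s hs (mem_op_of_mem_fit (pow_mem hx _) (k := (orderOf x).factorization s) ?_)⟩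
  rw [← pow_mul, Nat.div_mul_cancel (Nat.ordProj_dvd _ _), pow_orderOf_eq_one]

theorem fc_le_fit : Fc r M ≤ Cfsg.fittingOf M := OddOrder.piCoreOf_le _ _

theorem fc_le {W : Subgroup G} (h : ∀ t : ℕ, t.Prime → t ≠ r → Op t M ≤ W) : Fc r M ≤ W := by
  intro x hx
  refine OddOrder.mem_of_forall_exists_pow_mem (orderOf_pos x) fun s hs hd => ?_
  haveI := Fact.mk hs
  have hmem := OddOrder.piCoreOf_isPiSubgroup _ _ s hs
    (hd.trans (OddOrder.orderOf_dvd_card_of_mem hx))
  refine ⟨orderOf x / s ^ (orderOf x).factorization s,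
    Nat.not_dvd_ordCompl hs (orderOf_pos x).ne',
    h s hs (fun he => hmem.2 (Set.mem_singleton_iff.2 he))
      (mem_op_of_mem_fit (pow_mem (fc_le_fit hx) _) (k := (orderOf x).factorization s) ?_)⟩
  rw [← pow_mul, Nat.div_mul_cancel (Nat.ordProj_dvd _ _), pow_orderOf_eq_one]

theorem exists_split {f : G} (hf : f ∈ Cfsg.fittingOf M) :
    ∃ o ∈ Op r M, ∃ g ∈ Fc r M, f = o * g := by
  have h1 := OddOrder.le_sup_piCoreOf_of_nilpotent (OddOrder.fittingOf_isNilpotent M) {r} hf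
  rw [OddOrder.piCoreOf_singleton_fittingOf] at h1
  obtain ⟨o, ho, g, hg, rfl⟩ := (Solvable.mem_sup_of_le_normalizer
    ((fc_le_fit.trans (OddOrder.fittingOf_le M)).trans le_normalizer_op)).1 h1
  exact ⟨o, ho, g, hg, rfl⟩

omit hr in
theorem fit_eq_bot_or_exists :
    Cfsg.fittingOf M = ⊥ ∨ ∃ t : ℕ, t.Prime ∧ Op t M ≠ ⊥ := by
  by_contra hno
  push Not at hno
  exact hno.1 (eq_bot_iff.2 (fit_le fun t ht => (hno.2 t ht).le))

variable (h : Min A G q)
include h

omit hr in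
theorem Min.commutator_mem_fit (hM : Inv A M) (hMt : M ≠ ⊤) {x y : G} (hx : x ∈ M) (hy : y ∈ M) :
    ⁅x, y⁆ ∈ Cfsg.fittingOf M := by
  haveI := h.finA
  letI := subAct M hM
  have hle := (h.toHyp.restrict hM).commutator_le_fitting (h.proper M hM hMt)
  exact ⟨⁅(⟨x, hx⟩ : M), ⟨y, hy⟩⁆,
    hle (commutator_mem_commutator (mem_top _) (mem_top _)), rfl⟩

omit hr in
theorem Min.le_normalizer_of_fit_le (hM : Inv A M) (hMt : M ≠ ⊤) {W : Subgroup G}
    (hWM : W ≤ M) (hFW : Cfsg.fittingOf M ≤ W) : M ≤ normalizer (W : Set G) := by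
  rw [le_normalizer_iff]
  intro m hm w hw
  rw [show m * w * m⁻¹ = ⁅m, w⁆ * w by rw [commutatorElement_def]; group]
  exact W.mul_mem (hFW (h.commutator_mem_fit hM hMt hm (hWM hw))) hw

/-- A `t`-subgroup containing `O_t(M)` centralised by the other components lies in `O_t(M)`. -/
theorem Min.le_op_of_centralized (hM : Inv A M) (hMt : M ≠ ⊤) {W : Subgroup G} (hWM : W ≤ M)
    (hW : IsPGroup r W) (hOW : Op r M ≤ W)
    (hc : ∀ t : ℕ, t.Prime → t ≠ r → Op t M ≤ centralizer (W : Set G)) : W ≤ Op r M := by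
  refine le_op hWM ?_ hW
  rw [le_normalizer_iff]
  intro m hm x hx
  obtain ⟨o, ho, g, hg, hf⟩ := exists_split (r := r)
    (h.commutator_mem_fit hM hMt (M.inv_mem (hWM hx)) hm : ⁅x⁻¹, m⁆ ∈ _)
  have hy : m * x * m⁻¹ = x * o * g := by
    rw [mul_assoc x o g, ← hf, commutatorElement_def]; group
  have hxo : x * o ∈ W := W.mul_mem hx (hOW ho)
  have hgc : x * o * g = g * (x * o) := fc_le hc hg (x * o) hxo
  obtain ⟨i, hi⟩ := hW ⟨x * o, hxo⟩
  obtain ⟨j, hj⟩ := hW ⟨x, hx⟩
  have hi' : (x * o) ^ r ^ i = 1 := congrArg Subtype.val hi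
  have hj' : x ^ r ^ j = 1 := congrArg Subtype.val hj
  have hy' : (x * o * g) ^ r ^ (i + j) = 1 := by
    rw [← hy, conj_pow, pow_add, mul_comm, pow_mul, hj', one_pow, mul_one, mul_inv_cancel]
  rw [(show Commute (x * o) g from hgc).mul_pow, pow_add, pow_mul, hi', one_pow, one_mul] at hy'
  rw [hy]
  exact W.mul_mem hxo (hOW (mem_op_of_mem_fit (fc_le_fit hg) (k := i + j) (by rw [pow_add, hy'])))

/-- A commutator subgroup of an invariant subgroup of the Sylow subgroup is normal. -/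
theorem Min.normal_commutator (hM : Inv A M) (hMt : M ≠ ⊤) {Y V : Subgroup G} (hY : Inv A Y)
    (hYs : Y ≤ Sy A G r ⊓ M) (hVM : M ≤ normalizer (V : Set G))
    (hsV : Op r M ≤ centralizer (V : Set G))
    (hN : ∀ t : ℕ, t.Prime → Op t M ≤ normalizer ((⁅V, Y⁆ : Subgroup G) : Set G)) :
    M ≤ normalizer ((⁅V, Y⁆ : Subgroup G) : Set G) := by
  set W := Cfsg.fittingOf M ⊔ Y with hW
  have hYM : Y ≤ M := hYs.trans inf_le_right
  have hWM : W ≤ M := sup_le (OddOrder.fittingOf_le M) hYM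
  have hWi : Inv A W := (inv_fittingOf hM).sup hY
  have hWT : W ≤ normalizer ((⁅V, Y⁆ : Subgroup G) : Set G) :=
    sup_le (fit_le hN) (Solvable.le_normalizer_commutator_right V Y)
  have hQ : ⁅V, Sy A G r ⊓ W⁆ = ⁅V, Y⁆ := by
    refine le_antisymm ?_ (commutator_mono le_rfl (le_inf (hYs.trans inf_le_left) le_sup_right))
    rw [commutator_le]
    intro v hv x hx
    obtain ⟨f, hf, y, hy, rfl⟩ := (Solvable.mem_sup_of_le_normalizer
      (hYM.trans (OddOrder.le_normalizer_fittingOf M))).1 hx.2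
    obtain ⟨k, hk⟩ := h.toHyp.isPGroup_sy r ⟨f * y * y⁻¹, (Sy A G r).mul_mem hx.1
      ((Sy A G r).inv_mem (hYs hy).1)⟩
    have hfo : f ∈ Op r M := mem_op_of_mem_fit hf (k := k) (by
      have h1 := congrArg Subtype.val hk
      rw [coe_pow, coe_one] at h1
      simpa using h1)
    have h1 : v * f = f * v := hsV hfo v hv
    have h2 : ⁅v, f * y⁆ = f * ⁅v, y⁆ * f⁻¹ := by
      rw [commutatorElement_def, commutatorElement_def, ← mul_assoc v f y, h1]; group
    rw [h2]
    exact ((mem_normalizer_iff.1 (hN r hr.out hfo)) _).1 (commutator_mem_commutator hv hy)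
  refine (h.toHyp.frattini_arg hWi (h.le_normalizer_of_fit_le hM hMt hWM le_sup_left) hWM r).trans
    (sup_le hWT ?_)
  intro n hn
  rw [mem_normalizer_iff_map_conj_eq]
  rw [← hQ, map_commutator, mem_normalizer_iff_map_conj_eq.1 (hVM hn.1),
    mem_normalizer_iff_map_conj_eq.1 hn.2]

end CfsgLib.RankTwoFpf
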