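import Cfsg.Agent.Lib.RankTwoFpf.Basic
import Cfsg.Agent.Lib.OddOrder.FixLineRep

/-!
Weights of normal subgroups in a representation of `G` with a compatible representation of `A`,
in which fixed vectors of `a` are fixed by the fixed points of `a`.
-/

set_option autoImplicit false
set_option linter.unusedSectionVars false

namespace CfsgLib.RankTwoFpf

open OddOrder.FixLine
open scoped commutatorElement

variable {A G : Type*} [Group A] [Group G] [MulDistribMulAction A G]
variable {k E : Type*} [Field k] [AddCommGroup E] [Module k E]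

/-- The sum over the powers of an element. -/
def powSum (q : ℕ) (α : Representation k A E) (a : A) : Module.End k E :=
  ∑ i ∈ Finset.range q, α (a ^ i)

/-- The linear setting. -/
structure Ctx (q : ℕ) [Fintype A] (ρ : Representation k G E) (α : Representation k A E) :
    Prop where
  hyp : Hyp A G q
  compat : ∀ (a : A) (g : G), α a * ρ g = ρ (a • g) * α a
  hfix : ∀ a : A, a ≠ 1 → ∀ u : G, a • u = u → ρ u * powSum q α a = powSum q α a
  hsum : ∑ a : A, α a = 0

/-- The conjugate of a function by an element of `A`. -/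
def tw (a : A) (χ : G → k) : G → k := fun s => χ (a⁻¹ • s)

theorem tw_one (χ : G → k) : tw (1 : A) χ = χ := by funext s; simp [tw]

theorem tw_mul (a b : A) (χ : G → k) : tw (a * b) χ = tw a (tw b χ) := by
  funext s; simp [tw, mul_smul]

theorem tw_inv_tw (a : A) (χ : G → k) : tw a⁻¹ (tw a χ) = χ := by
  rw [← tw_mul, inv_mul_cancel, tw_one]

theorem tw_injective (a : A) : Function.Injective (tw a : (G → k) → G → k) :=
  Function.LeftInverse.injective (tw_inv_tw a)

/-- The stabiliser in `A` of a function. -/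
def twStab (A : Type*) [Group A] [MulDistribMulAction A G] (χ : G → k) : Subgroup A where
  carrier := {a | tw a χ = χ}
  one_mem' := tw_one χ
  mul_mem' {a b} ha hb := by
    show tw (a * b) χ = χ
    rw [tw_mul, show tw b χ = χ from hb]; exact ha
  inv_mem' {a} ha := by
    show tw a⁻¹ χ = χ
    conv_lhs => rw [← (show tw a χ = χ from ha)]
    exact tw_inv_tw a χ

theorem tw_cw (a : A) (u : G) (χ : G → k) : tw a (cw u χ) = cw (a • u) (tw a χ) := by
  funext s
  simp [tw, cw, smul_mul', smul_inv']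

variable [Fintype A] [Finite G] {q : ℕ} {ρ : Representation k G E} {α : Representation k A E}
  (hc : Ctx q ρ α)
include hc

theorem Ctx.tw_apply {N : Subgroup G} (hN : Inv A N) {χ : G → k} {v : E} (hv : v ∈ wt ρ N χ)
    (a : A) : α a v ∈ wt ρ N (tw a χ) := by
  rw [mem_wt] at hv ⊢
  intro s hs
  have h1 := LinearMap.congr_fun (hc.compat a (a⁻¹ • s)) v
  simp only [Module.End.mul_apply, smul_inv_smul] at h1
  rw [← h1, hv _ (hN a⁻¹ s hs), map_smul]
  rfl

theorem Ctx.alpha_eq_zero {a : A} {v : E} (h : α a v = 0) : v = 0 :=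
  rep_apply_eq_zero (ρ := α) h

theorem Ctx.isWt_tw {N : Subgroup G} (hN : Inv A N) {χ : G → k} (hχ : IsWt ρ N χ) (a : A) :
    IsWt ρ N (tw a χ) := by
  refine ⟨fun s hs => hχ.1 _ fun h => hs ?_, ?_⟩
  · simpa using hN a _ h
  · obtain ⟨v, hv, hv0⟩ := (Submodule.ne_bot_iff _).1 hχ.2
    exact (Submodule.ne_bot_iff _).2 ⟨_, hc.tw_apply hN hv a, fun h => hv0 (hc.alpha_eq_zero h)⟩

variable {N : Subgroup G} [N.Normal] (hN : Inv A N) {χ : G → k}
include hN

omit hc hN in
theorem mem_normalizer_normal (u : G) : u ∈ Subgroup.normalizer (N : Set G) := by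
  rw [Subgroup.normalizer_eq_top]; exact Subgroup.mem_top u

omit hN in
theorem Ctx.eq_one_of_pow {x : k} {n : ℕ} (hn : n ∣ Nat.card G) (h1 : x ^ q = 1) (h2 : x ^ n = 1) :
    x = 1 := by
  have h := pow_gcd_eq_one.2 ⟨h1, h2⟩
  rwa [((hc.hyp.qp.coprime_iff_not_dvd).2 fun hd => hc.hyp.cop (hd.trans hn)), pow_one] at h

/-- The stabiliser in `A` of a nontrivial weight is cyclic of order `q`. -/
theorem Ctx.exists_stab (hχ : IsWt ρ N χ) (hne : ∃ e ∈ N, χ e ≠ 1) :
    ∃ m : A, m ≠ 1 ∧ twStab A χ = Subgroup.zpowers m := by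
  classical
  have hh := hc.hyp
  have hbot : twStab A χ ≠ ⊥ := by
    intro hb
    obtain ⟨v, hv, hv0⟩ := (Submodule.ne_bot_iff _).1 hχ.2
    have hinj : Set.InjOn (fun a : A => tw a χ) (Finset.univ : Finset A) := fun a _ b _ hab => by
      have : a⁻¹ * b ∈ twStab A χ := by
        show tw (a⁻¹ * b) χ = χ
        have hab' : tw a χ = tw b χ := hab
        rw [tw_mul, ← hab', tw_inv_tw]
      rw [hb, Subgroup.mem_bot] at this
      exact inv_mul_eq_one.1 this
    have h0 := wt_sum_eq_zero (ρ := ρ) (S := N) Finset.univ (fun a : A => tw a χ)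
      (fun a => α a v) (fun a _ => (hc.isWt_tw hN hχ a).1) hinj
      (fun a _ => hc.tw_apply hN hv a)
      (by simpa [LinearMap.sum_apply] using LinearMap.congr_fun hc.hsum v) 1 (Finset.mem_univ _)
    exact hv0 (hc.alpha_eq_zero h0)
  obtain ⟨m, hm, hm1⟩ := (Subgroup.bot_or_exists_ne_one _).resolve_left hbot
  refine ⟨m, hm1, le_antisymm ?_ (Subgroup.zpowers_le.2 hm)⟩
  intro b hb
  by_contra hbm
  have htop : twStab A χ = ⊤ := hh.eq_top hm1 hbm _ hm hb
  have hst : ∀ (a : A) (s : G), χ (a • s) = χ s := fun a s => by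
    have h1 : tw a⁻¹ χ = χ := show a⁻¹ ∈ twStab A χ from htop ▸ Subgroup.mem_top _
    have := congrFun h1 s
    simpa [tw] using this
  let W : Subgroup G :=
    { carrier := {e | e ∈ N ∧ χ e = 1}
      one_mem' := ⟨N.one_mem, hχ.map_one⟩
      mul_mem' := fun {a b} ha hb => ⟨N.mul_mem ha.1 hb.1, by
        rw [hχ.map_mul ha.1 hb.1, ha.2, hb.2, one_mul]⟩
      inv_mem' := fun {a} ha => ⟨N.inv_mem ha.1, by rw [hχ.map_inv ha.1, ha.2, inv_one]⟩ }
  have hle : N ≤ W := hh.le_of_fixed hN fun a ha e heN he => by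
    refine ⟨heN, ?_⟩
    obtain ⟨b, hba⟩ := hh.exists_not_mem a
    let c : ℕ → G := fun n => Nat.rec 1 (fun i d => d * (b ^ i • e)) n
    have hcs : ∀ n, c (n + 1) = c n * (b ^ n • e) := fun _ => rfl
    have hcN : ∀ n, c n ∈ N ∧ a • c n = c n ∧ χ (c n) = χ e ^ n := by
      intro n
      induction n with
      | zero => exact ⟨N.one_mem, smul_one a, by simpa [c] using hχ.map_one⟩
      | succ n ih =>
        refine ⟨N.mul_mem ih.1 (hN _ e heN), ?_, ?_⟩
        · rw [hcs, smul_mul', ih.2.1, hh.smul_swap, he]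
        · rw [hcs, hχ.map_mul ih.1 (hN _ e heN), ih.2.2, hst, pow_succ]
    have hshift : ∀ n, e * (b • c n) = c (n + 1) := by
      intro n
      induction n with
      | zero => simp [c]
      | succ n ih => rw [hcs n, smul_mul', ← mul_assoc, ih, smul_smul, ← pow_succ']
    have hfix : b • c q = c q := by
      have h1 := hshift q
      rw [hcs, hh.pow, one_smul, hh.ab a ha (c q) e (hcN q).2.1 he] at h1
      exact mul_left_cancel h1
    have h1 := (hcN q).2.2
    rw [hh.eq_one_of_fixed ha hba (hcN q).2.1 hfix, hχ.map_one] at h1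
    exact hc.eq_one_of_pow (orderOf_dvd_natCard e) h1.symm
      (by rw [← hχ.map_pow heN, pow_orderOf_eq_one, hχ.map_one])
  obtain ⟨e, he, he1⟩ := hne
  exact he1 (hle he).2

variable {m : A} (hm : twStab A χ = Subgroup.zpowers m)
include hm

omit hN in
theorem Ctx.tw_pow_inj {a : A} (ha : a ∉ Subgroup.zpowers m) {i j : ℕ} (hi : i < q) (hj : j < q)
    (h : tw (a ^ i) χ = tw (a ^ j) χ) : i = j := by
  have hh := hc.hyp
  wlog hij : i ≤ j generalizing i j
  · exact (this hj hi h.symm (le_of_not_ge hij)).symm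
  by_contra hne
  have hmem : a ^ (j - i) ∈ twStab A χ := by
    refine tw_injective (a ^ i) ?_
    rw [← tw_mul, ← pow_add, Nat.add_sub_cancel' hij]
    exact h.symm
  rw [hm] at hmem
  have hne1 : a ^ (j - i) ≠ 1 := by
    intro h1
    have hd := orderOf_dvd_of_pow_eq_one h1
    rw [hh.orderOf_eq (hh.ne_one_of_not_mem ha)] at hd
    have := Nat.le_of_dvd (by omega) hd
    omega
  exact ha (Subgroup.zpowers_le.2 hmem (hh.mem_zpowers_swap hne1 (Subgroup.npow_mem_zpowers a _)))

/-- The fixed points of `a ∉ ⟨m⟩` fix the weight and act trivially on its space. -/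
theorem Ctx.fix_apply_aux (hχ : IsWt ρ N χ) {a : A} (ha : a ∉ Subgroup.zpowers m) {u : G}
    (hu : a • u = u) : cw u χ = χ ∧ ∀ v ∈ wt ρ N χ, ρ u v = v := by
  classical
  have hh := hc.hyp
  have ha1 := hh.ne_one_of_not_mem ha
  have hui : ∀ i : ℕ, a ^ i • u = u := fun i =>
    Hyp.smul_eq_of_mem_zpowers (Subgroup.npow_mem_zpowers a i) hu
  have key : ∀ v, ∑ i ∈ Finset.range q, α (a ^ i) (ρ u v) = ∑ i ∈ Finset.range q, α (a ^ i) v := by
    intro v
    have h1 : ∀ i : ℕ, α (a ^ i) (ρ u v) = ρ u (α (a ^ i) v) := fun i => by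
      have := LinearMap.congr_fun (hc.compat (a ^ i) u) v
      simpa [hui i] using this
    simp_rw [h1]
    rw [← map_sum]
    simpa [powSum, LinearMap.sum_apply] using LinearMap.congr_fun (hc.hfix a ha1 u hu) v
  have hnu := mem_normalizer_normal (N := N) u
  obtain ⟨j, hj, hjeq⟩ : ∃ j < q, cw u χ = tw (a ^ j) χ := by
    by_contra hno
    push Not at hno
    obtain ⟨v, hv, hv0⟩ := (Submodule.ne_bot_iff _).1 hχ.2
    let f : Bool × ℕ → G → k := fun z => tw (a ^ z.2) (bif z.1 then cw u χ else χ)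
    let e : Bool × ℕ → E := fun z => bif z.1 then α (a ^ z.2) (ρ u v) else -α (a ^ z.2) v
    have hcross : ∀ i j, i < q → j < q → tw (a ^ i) (cw u χ) ≠ tw (a ^ j) χ := by
      intro i j hi hj he
      refine hno ((q - i + j) % q) (Nat.mod_lt _ hh.qp.pos) ?_
      rw [show a ^ ((q - i + j) % q) = a ^ (q - i) * a ^ j by
          rw [← pow_add, ← pow_mod_orderOf a (q - i + j), hh.orderOf_eq ha1],
        tw_mul, ← he, ← tw_mul, ← pow_add, Nat.sub_add_cancel hi.le, hh.pow, tw_one]
    have hz := wt_sum_eq_zero (ρ := ρ) (S := N) (Finset.univ ×ˢ Finset.range q) f e ?_ ?_ ?_ ?_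
    · have h0 := hz (false, 0) (by simp [hh.qp.pos])
      exact hv0 (by simpa [e] using h0)
    · rintro ⟨c, i⟩ _
      cases c
      · exact (hc.isWt_tw hN hχ _).1
      · exact (hc.isWt_tw hN (hχ.cw hnu) _).1
    · rintro ⟨c, i⟩ hi ⟨d, l⟩ hl hil
      simp only [Finset.coe_product, Set.mem_prod, Finset.mem_coe, Finset.mem_univ, true_and,
        Finset.mem_range] at hi hl
      cases c <;> cases d <;> simp only [f, cond_true, cond_false] at hil
      · rw [hc.tw_pow_inj hm ha hi hl hil]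
      · exact absurd hil.symm (hcross l i hl hi)
      · exact absurd hil (hcross i l hi hl)
      · rw [tw_cw, tw_cw, hui, hui] at hil
        rw [hc.tw_pow_inj hm ha hi hl (cw_injective u hil)]
    · rintro ⟨c, i⟩ _
      cases c
      · exact neg_mem (hc.tw_apply hN hv _)
      · exact hc.tw_apply hN (wt_apply hnu hv) _
    · rw [Finset.sum_product, Fintype.sum_bool]
      simp only [e, cond_true, cond_false]
      rw [Finset.sum_neg_distrib, key v, add_neg_cancel]
  have hiter : ∀ n : ℕ, cw (u ^ n) χ = tw (a ^ (j * n)) χ := by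
    intro n
    induction n with
    | zero => simp [cw_one, tw_one]
    | succ n ih =>
      have hun : a ^ j • u ^ n = u ^ n := by rw [smul_pow', hui]
      rw [pow_succ, cw_mul, hjeq]
      conv_lhs => rw [← hun]
      rw [← tw_cw, ih, ← tw_mul, ← pow_add, mul_add, mul_one, add_comm]
  have hj0 : j = 0 := by
    by_contra hj0
    have h1 := hiter (orderOf u)
    rw [pow_orderOf_eq_one, cw_one] at h1
    have hmem : a ^ (j * orderOf u) ∈ twStab A χ := h1.symm
    rw [hm] at hmem
    have hne1 : a ^ (j * orderOf u) ≠ 1 := by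
      intro h2
      have hd := orderOf_dvd_of_pow_eq_one h2
      rw [hh.orderOf_eq ha1] at hd
      rcases hh.qp.dvd_mul.1 hd with hd | hd
      · have := Nat.le_of_dvd (by omega) hd
        omega
      · exact hh.cop (hd.trans (orderOf_dvd_natCard u))
    exact ha (Subgroup.zpowers_le.2 hmem
      (hh.mem_zpowers_swap hne1 (Subgroup.npow_mem_zpowers a _)))
  rw [hj0, pow_zero, tw_one] at hjeq
  refine ⟨hjeq, fun v hv => ?_⟩
  have hd : ρ u v - v ∈ wt ρ N χ := sub_mem (by simpa [hjeq] using wt_apply hnu hv) hv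
  have h0 := wt_sum_eq_zero (ρ := ρ) (S := N) (Finset.range q) (fun i => tw (a ^ i) χ)
    (fun i => α (a ^ i) (ρ u v - v)) (fun i _ => (hc.isWt_tw hN hχ _).1)
    (fun i hi l hl hil => hc.tw_pow_inj hm ha (Finset.mem_range.1 hi) (Finset.mem_range.1 hl) hil)
    (fun i _ => hc.tw_apply hN hd _)
    (by simp only [map_sub, Finset.sum_sub_distrib]; rw [key v, sub_self]) 0 (Finset.mem_range.2 hh.qp.pos)
  simpa [sub_eq_zero] using h0

theorem Ctx.fix_eq_one (hχ : IsWt ρ N χ) {a : A} (ha : a ∉ Subgroup.zpowers m) {e : G} (he : e ∈ N)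
    (hea : a • e = e) : χ e = 1 := by
  obtain ⟨v, hv, hv0⟩ := (Submodule.ne_bot_iff _).1 hχ.2
  have h1 := (hc.fix_apply_aux hN hm hχ ha hea).2 v hv
  rw [mem_wt.1 hv e he] at h1
  exact smul_left_injective k hv0 (by simpa using h1)

/-- Some fixed point of `m` is moved by the weight. -/
theorem Ctx.exists_fix_ne (hχ : IsWt ρ N χ) (hne : ∃ e ∈ N, χ e ≠ 1) :
    ∃ e ∈ N, m • e = e ∧ χ e ≠ 1 := by
  by_contra hno
  push Not at hno
  let W : Subgroup G :=
    { carrier := {e | e ∈ N ∧ χ e = 1}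
      one_mem' := ⟨N.one_mem, hχ.map_one⟩
      mul_mem' := fun {a b} ha hb => ⟨N.mul_mem ha.1 hb.1, by
        rw [hχ.map_mul ha.1 hb.1, ha.2, hb.2, one_mul]⟩
      inv_mem' := fun {a} ha => ⟨N.inv_mem ha.1, by rw [hχ.map_inv ha.1, ha.2, inv_one]⟩ }
  have hle : N ≤ W := hc.hyp.le_of_fixed' hN m (fun e he hf => ⟨he, hno e he hf⟩)
    fun b hb e he hf => ⟨he, hc.fix_eq_one hN hm hχ hb he hf⟩
  obtain ⟨e, he, he1⟩ := hne
  exact he1 (hle he).2

/-- The fixed points of `m` fix the weight. -/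
theorem Ctx.cw_eq_of_fix (hm1 : m ≠ 1) (hχ : IsWt ρ N χ) (hne : ∃ e ∈ N, χ e ≠ 1) {u : G}
    (hu : m • u = u) : cw u χ = χ := by
  have hh := hc.hyp
  have hnu := mem_normalizer_normal (N := N) u
  have hχ' : IsWt ρ N (cw u χ) := hχ.cw hnu
  have hne' : ∃ e ∈ N, cw u χ e ≠ 1 := by
    obtain ⟨e, he, he1⟩ := hne
    exact ⟨u * e * u⁻¹, Subgroup.Normal.conj_mem ‹N.Normal› e he u, by simpa [cw, mul_assoc] using he1⟩
  obtain ⟨m', hm'1, hm'⟩ := hc.exists_stab hN hχ' hne'
  have hmm' : m ∈ Subgroup.zpowers m' := by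
    rw [← hm']
    show tw m (cw u χ) = cw u χ
    rw [tw_cw, hu, show tw m χ = χ from
      (show m ∈ twStab A χ from hm ▸ Subgroup.mem_zpowers m)]
  have hz : twStab A (cw u χ) = Subgroup.zpowers m := by
    rw [hm', hh.zpowers_eq hm1 hmm']
  let W : Subgroup G :=
    { carrier := {e | e ∈ N ∧ cw u χ e = χ e}
      one_mem' := ⟨N.one_mem, by rw [hχ'.map_one, hχ.map_one]⟩
      mul_mem' := fun {a b} ha hb => ⟨N.mul_mem ha.1 hb.1, by
        rw [hχ'.map_mul ha.1 hb.1, hχ.map_mul ha.1 hb.1, ha.2, hb.2]⟩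
      inv_mem' := fun {a} ha => ⟨N.inv_mem ha.1, by
        rw [hχ'.map_inv ha.1, hχ.map_inv ha.1, ha.2]⟩ }
  have hle : N ≤ W := hh.le_of_fixed' hN m
    (fun e he hf => ⟨he, by
      simp only [cw]
      rw [show u⁻¹ * e * u = e by rw [mul_assoc, hh.ab m hm1 e u hf hu, inv_mul_cancel_left]]⟩)
    fun b hb e he hf => ⟨he, by
      rw [hc.fix_eq_one hN hz hχ' hb he hf, hc.fix_eq_one hN hm hχ hb he hf]⟩
  funext s
  by_cases hs : s ∈ N
  · exact (hle hs).2
  · rw [hχ.1 s hs, hχ'.1 s hs]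

omit hm in
/-- The derived subgroup acts trivially on a nontrivial weight space. -/
theorem Ctx.commutator_apply (hχ : IsWt ρ N χ) (hne : ∃ e ∈ N, χ e ≠ 1) {x : G}
    (hx : x ∈ commutator G) {v : E} (hv : v ∈ wt ρ N χ) : ρ x v = v := by
  have hh := hc.hyp
  obtain ⟨m, hm1, hm⟩ := hc.exists_stab hN hχ hne
  have htop : Inv A (⊤ : Subgroup G) := fun _ _ _ => Subgroup.mem_top _
  have hstab : ∀ g : G, cw g χ = χ := fun g => by
    have : (⊤ : Subgroup G) ≤ cwStab χ := hh.le_of_fixed' htop m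
      (fun u _ hu => hc.cw_eq_of_fix hN hm hm1 hχ hne hu)
      fun b hb u _ hu => (hc.fix_apply_aux hN hm hχ hb hu).1
    exact this (Subgroup.mem_top g)
  have hW : ∀ g : G, ∀ w ∈ wt ρ N χ, ρ g w ∈ wt ρ N χ := fun g w hw => by
    have := wt_apply (mem_normalizer_normal (N := N) g) hw
    rwa [hstab g] at this
  let C : G → Subgroup G := fun u =>
    { carrier := {g | ∀ w ∈ wt ρ N χ, ρ g (ρ u w) = ρ u (ρ g w)}
      one_mem' := fun w _ => by simp
      mul_mem' := fun {g g'} hg hg' w hw => by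
        rw [rep_mul_apply, rep_mul_apply, hg' w hw, hg _ (hW g' w hw)]
      inv_mem' := fun {g} hg w hw => by
        have h1 := hg _ (hW g⁻¹ w hw)
        rw [← rep_mul_apply ρ g g⁻¹ w, mul_inv_cancel, rep_one_apply] at h1
        conv_lhs => rw [← h1]
        exact rep_inv_apply_self ρ g _ }
  have hfix : ∀ (b : A), b ∉ Subgroup.zpowers m → ∀ g : G, b • g = g → ∀ u, g ∈ C u :=
    fun b hb g hg u w hw => by
      rw [(hc.fix_apply_aux hN hm hχ hb hg).2 _ (hW u w hw),
        (hc.fix_apply_aux hN hm hχ hb hg).2 w hw]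
  have hall : ∀ u g : G, g ∈ C u := by
    have h1 : ∀ u, m • u = u → ∀ g, g ∈ C u := fun u hu g =>
      hh.le_of_fixed' (W := C u) htop m (fun g _ hg w _ => by
        rw [← rep_mul_apply, ← rep_mul_apply, hh.ab m hm1 g u hg hu])
        (fun b hb g _ hg => hfix b hb g hg u) (Subgroup.mem_top g)
    intro u g
    exact hh.le_of_fixed' (W := C u) htop m (fun g _ hg w hw => (h1 g hg u w hw).symm)
      (fun b hb g _ hg => hfix b hb g hg u) (Subgroup.mem_top g)
  let T : Subgroup G :=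
    { carrier := {g | ∀ w ∈ wt ρ N χ, ρ g w = w}
      one_mem' := fun w _ => rep_one_apply ρ w
      mul_mem' := fun {g g'} hg hg' w hw => by rw [rep_mul_apply, hg' w hw, hg w hw]
      inv_mem' := fun {g} hg w hw => by
        conv_lhs => rw [← hg w hw]
        exact rep_inv_apply_self ρ g w }
  have hT : commutator G ≤ T := by
    rw [commutator_def, Subgroup.commutator_le]
    intro g _ g' _ w hw
    have hz : ρ g⁻¹ (ρ g'⁻¹ w) ∈ wt ρ N χ := hW _ _ (hW _ _ hw)
    have h1 := hall g' g _ hz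
    rw [commutatorElement_def, rep_mul_apply, rep_mul_apply, rep_mul_apply, h1,
      ← rep_mul_apply ρ g g⁻¹, mul_inv_cancel, rep_one_apply, ← rep_mul_apply, mul_inv_cancel,
      rep_one_apply]
  exact hT hx v hv

end CfsgLib.RankTwoFpf
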